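import Mathlib

set_option autoImplicit false

namespace Cfsg.Agent.Lib.Helper97

section Clifford

variable {F : Type*} [Field F] {V : Type*} [AddCommGroup V] [Module F V]

/-- `U` is stable under every member of `E`. -/
def EInv (E : Subalgebra F (Module.End F V)) (U : Submodule F V) : Prop :=
  ∀ e ∈ E, ∀ u ∈ U, e u ∈ U

/-- `S` is a minimal non-zero `E`-stable subspace. -/
def ESimple (E : Subalgebra F (Module.End F V)) (S : Submodule F V) : Prop :=
  S ≠ ⊥ ∧ EInv E S ∧ ∀ U : Submodule F V, U ≠ ⊥ → EInv E U → U ≤ S → U = S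

/-- The vectors killed by every member of `E` that kills `U`. -/
def hull (E : Subalgebra F (Module.End F V)) (U : Submodule F V) : Submodule F V where
  carrier := {v | ∀ e ∈ E, (∀ u ∈ U, e u = 0) → e v = 0}
  add_mem' := by
    intro a b ha hb e he h
    rw [map_add, ha e he h, hb e he h, add_zero]
  zero_mem' := by
    intro e _ _
    exact map_zero e
  smul_mem' := by
    intro c x hx e he h
    rw [map_smul, hx e he h, smul_zero]

theorem mem_hull {E : Subalgebra F (Module.End F V)} {U : Submodule F V} {v : V} :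
    v ∈ hull E U ↔ ∀ e ∈ E, (∀ u ∈ U, e u = 0) → e v = 0 := Iff.rfl

theorem le_hull (E : Subalgebra F (Module.End F V)) (U : Submodule F V) : U ≤ hull E U := by
  intro u hu e _ h
  exact h u hu

theorem einv_bot (E : Subalgebra F (Module.End F V)) : EInv E (⊥ : Submodule F V) := by
  intro e _ u hu
  rw [Submodule.mem_bot] at hu
  rw [hu, map_zero]
  exact Submodule.zero_mem _

theorem einv_sup {E : Subalgebra F (Module.End F V)} {U₁ U₂ : Submodule F V}
    (h₁ : EInv E U₁) (h₂ : EInv E U₂) : EInv E (U₁ ⊔ U₂) := by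
  intro e he u hu
  obtain ⟨y, hy, z, hz, rfl⟩ := Submodule.mem_sup.1 hu
  rw [map_add]
  exact Submodule.add_mem _ (Submodule.mem_sup_left (h₁ e he y hy))
    (Submodule.mem_sup_right (h₂ e he z hz))

theorem einv_finset_sup {E : Subalgebra F (Module.End F V)} {ι : Type*} (D : ι → Submodule F V)
    (hD : ∀ i, EInv E (D i)) (T : Finset ι) : EInv E (T.sup D) := by
  classical
  induction T using Finset.induction_on with
  | empty => simpa using einv_bot E
  | insert a T _ ih =>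
    rw [Finset.sup_insert]
    exact einv_sup (hD a) ih

theorem hull_inv {E : Subalgebra F (Module.End F V)}
    (hc : ∀ e₁ ∈ E, ∀ e₂ ∈ E, e₁ * e₂ = e₂ * e₁) (U : Submodule F V) : EInv E (hull E U) := by
  intro e he v hv e₂ he₂ h
  have h1 : e₂ (e v) = (e₂ * e) v := rfl
  have h2 : (e * e₂) v = e (e₂ v) := rfl
  rw [h1, hc e₂ he₂ e he, h2, hv e₂ he₂ h, map_zero]

theorem simple_cyclic {E : Subalgebra F (Module.End F V)} {S : Submodule F V}
    (hS : ESimple E S) {u : V} (hu : u ∈ S) (hu0 : u ≠ 0) :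
    ∀ s ∈ S, ∃ e ∈ E, e u = s := by
  let U : Submodule F V :=
    (Subalgebra.toSubmodule E).map (LinearMap.applyₗ (R := F) (M := V) (M₂ := V) u)
  have hmem : ∀ s : V, s ∈ U ↔ ∃ e ∈ E, e u = s := by
    intro s
    constructor
    · rintro ⟨e, he, rfl⟩
      exact ⟨e, he, rfl⟩
    · rintro ⟨e, he, rfl⟩
      exact ⟨e, he, rfl⟩
  have hU0 : U ≠ ⊥ := by
    rw [Submodule.ne_bot_iff]
    exact ⟨u, (hmem u).2 ⟨1, E.one_mem, rfl⟩, hu0⟩
  have hUinv : EInv E U := by
    intro e he s hs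
    obtain ⟨e₂, he₂, rfl⟩ := (hmem s).1 hs
    exact (hmem _).2 ⟨e * e₂, E.mul_mem he he₂, rfl⟩
  have hUS : U ≤ S := by
    intro s hs
    obtain ⟨e, he, rfl⟩ := (hmem s).1 hs
    exact hS.2.1 e he u hu
  have hUeq : U = S := hS.2.2 U hU0 hUinv hUS
  intro s hs
  rw [← hUeq] at hs
  exact (hmem s).1 hs

theorem simple_inv {E : Subalgebra F (Module.End F V)}
    (hc : ∀ e₁ ∈ E, ∀ e₂ ∈ E, e₁ * e₂ = e₂ * e₁) {S : Submodule F V}
    (hS : ESimple E S) {e : Module.End F V} (he : e ∈ E) (hne : ¬ ∀ s ∈ S, e s = 0) :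
    ∃ e' ∈ E, ∀ s ∈ S, e' (e s) = s := by
  have hK : S ⊓ LinearMap.ker e = ⊥ := by
    by_contra hK0
    have hKinv : EInv E (S ⊓ LinearMap.ker e) := by
      intro e₂ he₂ s hs
      rw [Submodule.mem_inf, LinearMap.mem_ker] at hs ⊢
      refine ⟨hS.2.1 e₂ he₂ s hs.1, ?_⟩
      have h1 : e (e₂ s) = (e * e₂) s := rfl
      have h2 : (e₂ * e) s = e₂ (e s) := rfl
      rw [h1, hc e he e₂ he₂, h2, hs.2, map_zero]
    have hKS := hS.2.2 _ hK0 hKinv inf_le_left
    apply hne
    intro s hs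
    rw [← hKS] at hs
    exact LinearMap.mem_ker.1 (Submodule.mem_inf.1 hs).2
  obtain ⟨s₀, hs₀, hs₀0⟩ := (Submodule.ne_bot_iff _).1 hS.1
  have hes₀ : e s₀ ∈ S := hS.2.1 e he s₀ hs₀
  have hes₀0 : e s₀ ≠ 0 := by
    intro h0
    have : s₀ ∈ S ⊓ LinearMap.ker e := Submodule.mem_inf.2 ⟨hs₀, LinearMap.mem_ker.2 h0⟩
    rw [hK, Submodule.mem_bot] at this
    exact hs₀0 this
  obtain ⟨e', he', he's⟩ := simple_cyclic hS hes₀ hes₀0 s₀ hs₀
  refine ⟨e', he', ?_⟩
  intro s hs
  obtain ⟨e₂, he₂, rfl⟩ := simple_cyclic hS hs₀ hs₀0 s hs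
  have h1 : e' (e (e₂ s₀)) = ((e' * e) * e₂) s₀ := rfl
  have h2 : (e₂ * (e' * e)) s₀ = e₂ (e' (e s₀)) := rfl
  rw [h1, hc (e' * e) (E.mul_mem he' he) e₂ he₂, h2, he's]

theorem hull_cancel {E : Subalgebra F (Module.End F V)}
    (hc : ∀ e₁ ∈ E, ∀ e₂ ∈ E, e₁ * e₂ = e₂ * e₁) {S : Submodule F V}
    (hS : ESimple E S) {e : Module.End F V} (he : e ∈ E) (hne : ¬ ∀ s ∈ S, e s = 0) :
    ∀ v ∈ hull E S, e v = 0 → v = 0 := by
  obtain ⟨e', he', h⟩ := simple_inv hc hS he hne
  intro v hv hev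
  have h1 : (e' * e - 1) v = 0 := by
    apply hv (e' * e - 1) (E.sub_mem (E.mul_mem he' he) E.one_mem)
    intro s hs
    have : (e' * e - 1) s = e' (e s) - s := rfl
    rw [this, h s hs, sub_self]
  have h2 : (e' * e - 1) v = e' (e v) - v := rfl
  rw [h2, hev, map_zero, zero_sub, neg_eq_zero] at h1
  exact h1

theorem hull_eq_of_ann_le {E : Subalgebra F (Module.End F V)}
    (hc : ∀ e₁ ∈ E, ∀ e₂ ∈ E, e₁ * e₂ = e₂ * e₁) {S₁ S₂ : Submodule F V}
    (hS₁ : ESimple E S₁) (hS₂ : ESimple E S₂)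
    (h : ∀ e ∈ E, (∀ s ∈ S₂, e s = 0) → ∀ s ∈ S₁, e s = 0) : hull E S₁ = hull E S₂ := by
  have h' : ∀ e ∈ E, (∀ s ∈ S₁, e s = 0) → ∀ s ∈ S₂, e s = 0 := by
    intro e he h1
    by_contra hne
    obtain ⟨e', he', h2⟩ := simple_inv hc hS₂ he hne
    apply hS₁.1
    rw [Submodule.eq_bot_iff]
    intro s hs
    have h3 : (e' * e - 1) s = 0 := by
      apply h (e' * e - 1) (E.sub_mem (E.mul_mem he' he) E.one_mem) _ s hs
      intro s₂ hs₂
      have : (e' * e - 1) s₂ = e' (e s₂) - s₂ := rfl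
      rw [this, h2 s₂ hs₂, sub_self]
    have h4 : (e' * e - 1) s = e' (e s) - s := rfl
    rw [h4, h1 s hs, map_zero, zero_sub, neg_eq_zero] at h3
    exact h3
  ext v
  constructor
  · intro hv e he h2
    exact hv e he (h e he h2)
  · intro hv e he h1
    exact hv e he (h' e he h1)

end Clifford

section CliffordGroup

variable {F : Type*} [Field F] {V : Type*} [AddCommGroup V] [Module F V]
variable {H : Type*} [Group H] (ρ : H →* Module.End F V)

theorem rho_mul_inv (h : H) : ρ h * ρ h⁻¹ = 1 := by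
  rw [← map_mul, mul_inv_cancel, map_one]

theorem rho_inv_mul (h : H) : ρ h⁻¹ * ρ h = 1 := by
  rw [← map_mul, inv_mul_cancel, map_one]

theorem rho_inv_apply (h : H) (v : V) : ρ h⁻¹ (ρ h v) = v := by
  have : (ρ h⁻¹ * ρ h) v = v := by rw [rho_inv_mul]; rfl
  exact this

theorem rho_apply_inv (h : H) (v : V) : ρ h (ρ h⁻¹ v) = v := by
  have : (ρ h * ρ h⁻¹) v = v := by rw [rho_mul_inv]; rfl
  exact this

theorem rho_injective (h : H) : Function.Injective (ρ h) := by
  intro a b hab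
  have := congrArg (ρ h⁻¹) hab
  rwa [rho_inv_apply, rho_inv_apply] at this

theorem map_map_rho (h k : H) (U : Submodule F V) :
    (U.map (ρ k)).map (ρ h) = U.map (ρ (h * k)) := by
  rw [← Submodule.map_comp, map_mul]
  rfl

theorem map_rho_one (U : Submodule F V) : U.map (ρ 1) = U := by
  rw [map_one]
  exact Submodule.map_id U

theorem map_rho_ne_bot (h : H) {U : Submodule F V} (hU : U ≠ ⊥) : U.map (ρ h) ≠ ⊥ := by
  intro h0
  apply hU
  rw [Submodule.eq_bot_iff]
  intro x hx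
  have : ρ h x ∈ U.map (ρ h) := Submodule.mem_map_of_mem hx
  rw [h0, Submodule.mem_bot] at this
  have h2 := congrArg (ρ h⁻¹) this
  rwa [rho_inv_apply, map_zero] at h2

theorem einv_map {E : Subalgebra F (Module.End F V)}
    (hE : ∀ h : H, ∀ e ∈ E, ρ h * e * ρ h⁻¹ ∈ E) {U : Submodule F V} (hU : EInv E U) (h : H) :
    EInv E (U.map (ρ h)) := by
  intro e he w hw
  obtain ⟨u, hu, rfl⟩ := Submodule.mem_map.1 hw
  have h1 : ρ h⁻¹ * e * ρ h⁻¹⁻¹ ∈ E := hE h⁻¹ e he
  rw [inv_inv] at h1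
  have h2 : e (ρ h u) = ρ h ((ρ h⁻¹ * e * ρ h) u) := by
    have : (ρ h⁻¹ * e * ρ h) u = ρ h⁻¹ (e (ρ h u)) := rfl
    rw [this, rho_apply_inv]
  rw [h2]
  exact Submodule.mem_map_of_mem (hU _ h1 u hu)

theorem simple_map {E : Subalgebra F (Module.End F V)}
    (hE : ∀ h : H, ∀ e ∈ E, ρ h * e * ρ h⁻¹ ∈ E) {S : Submodule F V} (hS : ESimple E S) (h : H) :
    ESimple E (S.map (ρ h)) := by
  refine ⟨map_rho_ne_bot ρ h hS.1, einv_map ρ hE hS.2.1 h, ?_⟩
  intro U hU0 hUinv hUS
  have h1 : U.map (ρ h⁻¹) = S := by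
    apply hS.2.2 _ (map_rho_ne_bot ρ h⁻¹ hU0) (einv_map ρ hE hUinv h⁻¹)
    have := Submodule.map_mono (f := ρ h⁻¹) hUS
    rwa [map_map_rho, inv_mul_cancel, map_rho_one] at this
  rw [← h1, map_map_rho, mul_inv_cancel, map_rho_one]

theorem hull_map_le {E : Subalgebra F (Module.End F V)}
    (hE : ∀ h : H, ∀ e ∈ E, ρ h * e * ρ h⁻¹ ∈ E) (h : H) (U : Submodule F V) :
    (hull E U).map (ρ h) ≤ hull E (U.map (ρ h)) := by
  intro w hw
  obtain ⟨v, hv, rfl⟩ := Submodule.mem_map.1 hw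
  intro e he hvan
  have h1 : ρ h⁻¹ * e * ρ h⁻¹⁻¹ ∈ E := hE h⁻¹ e he
  rw [inv_inv] at h1
  have h2 : (ρ h⁻¹ * e * ρ h) v = 0 := by
    apply hv _ h1
    intro u hu
    have : (ρ h⁻¹ * e * ρ h) u = ρ h⁻¹ (e (ρ h u)) := rfl
    rw [this, hvan _ (Submodule.mem_map_of_mem hu), map_zero]
  have h3 : (ρ h⁻¹ * e * ρ h) v = ρ h⁻¹ (e (ρ h v)) := rfl
  rw [h3] at h2
  have h4 := congrArg (ρ h) h2
  rwa [rho_apply_inv, map_zero] at h4

theorem hull_map {E : Subalgebra F (Module.End F V)}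
    (hE : ∀ h : H, ∀ e ∈ E, ρ h * e * ρ h⁻¹ ∈ E) (h : H) (U : Submodule F V) :
    (hull E U).map (ρ h) = hull E (U.map (ρ h)) := by
  apply le_antisymm (hull_map_le ρ hE h U)
  have h1 := hull_map_le ρ hE h⁻¹ (U.map (ρ h))
  rw [map_map_rho, inv_mul_cancel, map_rho_one] at h1
  have h2 := Submodule.map_mono (f := ρ h) h1
  rwa [map_map_rho, mul_inv_cancel, map_rho_one] at h2

end CliffordGroup

section CliffordMain

variable {F : Type*} [Field F] {V : Type*} [AddCommGroup V] [Module F V] [FiniteDimensional F V]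
variable {H : Type*} [Group H] [Finite H] (ρ : H →* Module.End F V)

theorem exists_simple (E : Subalgebra F (Module.End F V)) (hV : (⊤ : Submodule F V) ≠ ⊥) :
    ∃ S, ESimple E S := by
  have hwf : WellFounded ((· < ·) : Submodule F V → Submodule F V → Prop) := wellFounded_lt
  let s : Set (Submodule F V) := {U | U ≠ ⊥ ∧ EInv E U}
  have hs : s.Nonempty := ⟨⊤, hV, fun e _ u _ => Submodule.mem_top⟩
  refine ⟨hwf.min s hs, (hwf.min_mem s hs).1, (hwf.min_mem s hs).2, ?_⟩
  intro U hU0 hUinv hUS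
  by_contra hne
  exact hwf.not_lt_min s (show U ∈ s from ⟨hU0, hUinv⟩) (lt_of_le_of_ne hUS hne)

/-- A commutative algebra of endomorphisms normalised by an irreducible primitive group
consists of zero and injective maps. -/
theorem clifford_comm (E : Subalgebra F (Module.End F V))
    (hc : ∀ e₁ ∈ E, ∀ e₂ ∈ E, e₁ * e₂ = e₂ * e₁)
    (hE : ∀ h : H, ∀ e ∈ E, ρ h * e * ρ h⁻¹ ∈ E)
    (hirr : ∀ W : Submodule F V, (∀ h : H, W.map (ρ h) ≤ W) → W = ⊥ ∨ W = ⊤)
    (hprim : ∀ (t : ℕ) (D : Fin t → Submodule F V), 2 ≤ t → iSupIndep D → iSup D = ⊤ →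
      (∀ i, 0 < Module.finrank F (D i)) →
      (∀ i j, Module.finrank F (D i) = Module.finrank F (D j)) →
      ¬ ∀ h : H, ∃ σ : Equiv.Perm (Fin t), ∀ i, (D i).map (ρ h) = D (σ i))
    {e : Module.End F V} (he : e ∈ E) (hne : e ≠ 0) : LinearMap.ker e = ⊥ := by
  classical
  by_cases hV : (⊤ : Submodule F V) = ⊥
  · exact le_bot_iff.1 (hV ▸ le_top)
  obtain ⟨S, hS⟩ := exists_simple E hV
  set X := hull E S with hX
  have hXS : S ≤ X := le_hull E S
  have hX0 : X ≠ ⊥ := fun h0 => hS.1 (le_bot_iff.1 (h0 ▸ hXS))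
  have hinvX : ∀ h : H, X.map (ρ h) = X := by
    by_contra hcon
    push Not at hcon
    let 𝒟 : Set (Submodule F V) := Set.range (fun h : H => X.map (ρ h))
    have h𝒟fin : 𝒟.Finite := Set.finite_range _
    have : Finite 𝒟 := h𝒟fin.to_subtype
    let t := Nat.card 𝒟
    let ε : 𝒟 ≃ Fin t := Finite.equivFin 𝒟
    let D : Fin t → Submodule F V := fun i => (ε.symm i : Submodule F V)
    have hD1 : ∀ i, ∃ h, D i = X.map (ρ h) := by
      intro i
      obtain ⟨h, hh⟩ := (ε.symm i).2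
      exact ⟨h, hh.symm⟩
    have hDinj : Function.Injective D := fun i j hij => ε.symm.injective (Subtype.ext hij)
    have hD3 : ∀ h, ∃ i, D i = X.map (ρ h) := by
      intro h
      refine ⟨ε ⟨X.map (ρ h), h, rfl⟩, ?_⟩
      show ((ε.symm (ε ⟨X.map (ρ h), h, rfl⟩) : 𝒟) : Submodule F V) = X.map (ρ h)
      rw [Equiv.symm_apply_apply]
    have hD4 : ∀ i, ∃ S', ESimple E S' ∧ D i = hull E S' := by
      intro i
      obtain ⟨h, hh⟩ := hD1 i
      exact ⟨S.map (ρ h), simple_map ρ hE hS h, by rw [hh, hX, hull_map ρ hE]⟩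
    have h2 : 2 ≤ t := by
      by_contra hlt
      have hle : Nat.card 𝒟 ≤ 1 := by
        have : t < 2 := not_le.1 hlt
        omega
      have hsub : Subsingleton 𝒟 := (Finite.card_le_one_iff_subsingleton).1 hle
      obtain ⟨h₀, hh₀⟩ := hcon
      have := hsub.elim (⟨X.map (ρ h₀), h₀, rfl⟩ : 𝒟) ⟨X, 1, map_rho_one ρ X⟩
      exact hh₀ (congrArg Subtype.val this)
    have hDinv : ∀ i, EInv E (D i) := by
      intro i
      obtain ⟨S', _, hS'⟩ := hD4 i
      rw [hS']
      exact hull_inv hc S'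
    have hindep : iSupIndep D := by
      rw [iSupIndep_def]
      intro i
      obtain ⟨Si, hSi, hDi⟩ := hD4 i
      have hsep : ∀ j, j ≠ i →
          ∃ e ∈ E, (∀ v ∈ D j, e v = 0) ∧ (∀ v ∈ D i, e v = 0 → v = 0) := by
        intro j hji
        obtain ⟨Sj, hSj, hDj⟩ := hD4 j
        have hne' : hull E Si ≠ hull E Sj := by
          rw [← hDi, ← hDj]
          exact fun h => hji (hDinj h).symm
        have hex : ¬ ∀ e ∈ E, (∀ s ∈ Sj, e s = 0) → ∀ s ∈ Si, e s = 0 :=
          fun h => hne' (hull_eq_of_ann_le hc hSi hSj h)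
        push Not at hex
        obtain ⟨e, he, h1, h2⟩ := hex
        refine ⟨e, he, ?_, ?_⟩
        · intro v hv
          rw [hDj] at hv
          exact hv e he h1
        · intro v hv
          rw [hDi] at hv
          have h2' : ¬ ∀ s ∈ Si, e s = 0 := by
            push Not
            exact h2
          exact hull_cancel hc hSi he h2' v hv
      have key : ∀ T : Finset (Fin t), (∀ j ∈ T, j ≠ i) → Disjoint (D i) (T.sup D) := by
        intro T
        induction T using Finset.induction_on with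
        | empty =>
          intro _
          simp
        | insert j T hjT ih =>
          intro hT
          have hji : j ≠ i := hT j (Finset.mem_insert_self j T)
          have ih' := ih (fun k hk => hT k (Finset.mem_insert_of_mem hk))
          obtain ⟨e, he, he1, he2⟩ := hsep j hji
          rw [Finset.sup_insert, Submodule.disjoint_def]
          intro x hxi hx
          obtain ⟨y, hy, z, hz, rfl⟩ := Submodule.mem_sup.1 hx
          apply he2 _ hxi
          have h1 : e (y + z) = e z := by rw [map_add, he1 y hy, zero_add]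
          have h2 : e (y + z) ∈ D i := hDinv i e he _ hxi
          have h3 : e z ∈ T.sup D := einv_finset_sup D hDinv T e he z hz
          rw [h1] at h2 ⊢
          exact (Submodule.disjoint_def.1 ih') _ h2 h3
      have hk := key (Finset.univ.erase i) (fun j hj => Finset.ne_of_mem_erase hj)
      simpa [Finset.sup_eq_iSup] using hk
    have hsup : iSup D = ⊤ := by
      have hW : ∀ h : H, (iSup D).map (ρ h) ≤ iSup D := by
        intro h
        rw [Submodule.map_iSup]
        apply iSup_le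
        intro i
        obtain ⟨k, hk⟩ := hD1 i
        obtain ⟨i', hi'⟩ := hD3 (h * k)
        change (D i).map (ρ h) ≤ iSup D
        rw [hk, map_map_rho, ← hi']
        exact le_iSup D i'
      rcases hirr _ hW with h0 | h1
      · exfalso
        obtain ⟨i, hi⟩ := hD3 1
        rw [map_rho_one] at hi
        apply hX0
        rw [← hi]
        exact le_bot_iff.1 (h0 ▸ le_iSup D i)
      · exact h1
    have hdim : ∀ i, Module.finrank F (D i) = Module.finrank F X := by
      intro i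
      obtain ⟨k, hk⟩ := hD1 i
      rw [hk]
      exact (Submodule.equivMapOfInjective (ρ k) (rho_injective ρ k) X).finrank_eq.symm
    have hXpos : 0 < Module.finrank F X :=
      Nat.pos_of_ne_zero (fun h => hX0 (Submodule.finrank_eq_zero.1 h))
    have hperm : ∀ h : H, ∃ σ : Equiv.Perm (Fin t), ∀ i, (D i).map (ρ h) = D (σ i) := by
      intro h
      have hmem : ∀ U : 𝒟, (U : Submodule F V).map (ρ h) ∈ 𝒟 := by
        rintro ⟨_, k, rfl⟩
        exact ⟨h * k, (map_map_rho ρ h k X).symm⟩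
      have hmem' : ∀ U : 𝒟, (U : Submodule F V).map (ρ h⁻¹) ∈ 𝒟 := by
        rintro ⟨_, k, rfl⟩
        exact ⟨h⁻¹ * k, (map_map_rho ρ h⁻¹ k X).symm⟩
      let π : 𝒟 ≃ 𝒟 :=
        { toFun := fun U => ⟨(U : Submodule F V).map (ρ h), hmem U⟩
          invFun := fun U => ⟨(U : Submodule F V).map (ρ h⁻¹), hmem' U⟩
          left_inv := by
            intro U
            apply Subtype.ext
            show ((U : Submodule F V).map (ρ h)).map (ρ h⁻¹) = U
            rw [map_map_rho, inv_mul_cancel, map_rho_one]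
          right_inv := by
            intro U
            apply Subtype.ext
            show ((U : Submodule F V).map (ρ h⁻¹)).map (ρ h) = U
            rw [map_map_rho, mul_inv_cancel, map_rho_one] }
      refine ⟨(ε.symm.trans π).trans ε, fun i => ?_⟩
      show (D i).map (ρ h) = ((ε.symm (ε (π (ε.symm i))) : 𝒟) : Submodule F V)
      rw [Equiv.symm_apply_apply]
      rfl
    exact hprim t D h2 hindep hsup (fun i => (hdim i).symm ▸ hXpos)
      (fun i j => (hdim i).trans (hdim j).symm) hperm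
  have hXtop : X = ⊤ := by
    rcases hirr X (fun h => (hinvX h).le) with h0 | h1
    · exact absurd h0 hX0
    · exact h1
  have hnv : ¬ ∀ s ∈ S, e s = 0 := by
    intro h
    apply hne
    ext v
    have hv : v ∈ hull E S := by
      rw [← hX, hXtop]
      exact Submodule.mem_top
    exact hv e he h
  rw [LinearMap.ker_eq_bot']
  intro v hv
  exact hull_cancel hc hS he hnv v (by rw [← hX, hXtop]; exact Submodule.mem_top) hv

end CliffordMain

end Cfsg.Agent.Lib.Helper97
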