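-- Sections `L/N` of a finite group as modules for a subgroup `G` normalizing `L` and `N`.
import Mathlib
import Cfsg.Agent.S0022
import Cfsg.Agent.Lib.Helper90.ExtAction
import Cfsg.Agent.Lib.Helper61.Norm
import Cfsg.Agent.Lib.Helper61.Coprime

set_option autoImplicit false

namespace Cfsg.Agent.Lib.Helper97.SectMod

open Subgroup
open scoped commutatorElement

section
variable {X : Type*} [Group X]

/-- The conjugation action of a subgroup `G` of the normalizer of `L` on `L`. -/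
@[reducible] def conjAct (G L : Subgroup X) (h : G ≤ Subgroup.normalizer (L : Set X)) :
    MulDistribMulAction G L where
  smul g v := ⟨g * v * (g : X)⁻¹, (Subgroup.mem_normalizer_iff.mp (h g.2) v).mp v.2⟩
  one_smul v := Subtype.ext (by
    change ((1 : G) : X) * v * ((1 : G) : X)⁻¹ = v
    simp)
  mul_smul a b v := Subtype.ext (by
    change ((a * b : G) : X) * v * ((a * b : G) : X)⁻¹ =
      (a : X) * ((b : X) * v * (b : X)⁻¹) * (a : X)⁻¹
    simp [mul_assoc])
  smul_mul a v w := Subtype.ext (by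
    change (a : X) * ((v * w : L) : X) * (a : X)⁻¹ =
      ((a : X) * v * (a : X)⁻¹) * ((a : X) * w * (a : X)⁻¹)
    simp [mul_assoc])
  smul_one a := Subtype.ext (by
    change (a : X) * ((1 : L) : X) * (a : X)⁻¹ = 1
    simp)

/-- The action of `G` on the section `L / N`. -/
@[reducible] def sectAct (G L N : Subgroup X) (hGL : G ≤ Subgroup.normalizer (L : Set X))
    (hGN : G ≤ Subgroup.normalizer (N : Set X)) [(N.subgroupOf L).Normal] :
    MulDistribMulAction ↥G (↥L ⧸ N.subgroupOf L) :=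
  letI := conjAct G L hGL
  Cfsg.Agent.Lib.Helper90.quotientAction (N.subgroupOf L) (fun a x hx => by
    rw [Subgroup.mem_subgroupOf] at hx ⊢
    exact (Subgroup.mem_normalizer_iff.mp (hGN a.2) x).mp hx)

theorem sectAct_mk (G L N : Subgroup X) (hGL : G ≤ Subgroup.normalizer (L : Set X))
    (hGN : G ≤ Subgroup.normalizer (N : Set X)) [(N.subgroupOf L).Normal] (g : ↥G) (x : ↥L) :
    letI := sectAct G L N hGL hGN
    g • (QuotientGroup.mk x : ↥L ⧸ N.subgroupOf L) =
      QuotientGroup.mk (⟨g * x * (g : X)⁻¹,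
        (Subgroup.mem_normalizer_iff.mp (hGL g.2) x).mp x.2⟩ : ↥L) := rfl

theorem section_comm (L N : Subgroup X) [(N.subgroupOf L).Normal] (h : ⁅L, L⁆ ≤ N)
    (a b : ↥L ⧸ N.subgroupOf L) : a * b = b * a := by
  induction a using QuotientGroup.induction_on with
  | _ a =>
    induction b using QuotientGroup.induction_on with
    | _ b =>
      rw [← QuotientGroup.mk_mul, ← QuotientGroup.mk_mul, QuotientGroup.eq,
        Subgroup.mem_subgroupOf]
      have h1 : ((a * b)⁻¹ * (b * a) : ↥L).1 = ⁅(b : X)⁻¹, (a : X)⁻¹⁆ := by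
        rw [commutatorElement_def]
        simp only [Subgroup.coe_mul, Subgroup.coe_inv]
        group
      rw [h1]
      exact h (Subgroup.commutator_mem_commutator (L.inv_mem b.2) (L.inv_mem a.2))

theorem section_exp (L N : Subgroup X) [(N.subgroupOf L).Normal] (ℓ : ℕ)
    (h : ∀ x ∈ L, x ^ ℓ ∈ N) (a : ↥L ⧸ N.subgroupOf L) : a ^ ℓ = 1 := by
  induction a using QuotientGroup.induction_on with
  | _ a =>
    rw [← QuotientGroup.mk_pow, QuotientGroup.eq_one_iff, Subgroup.mem_subgroupOf,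
      Subgroup.coe_pow]
    exact h a a.2

theorem card_section [Finite X] (L N : Subgroup X) (hNL : N ≤ L) [(N.subgroupOf L).Normal] :
    Nat.card (↥L ⧸ N.subgroupOf L) * Nat.card N = Nat.card L := by
  rw [Subgroup.card_eq_card_quotient_mul_card_subgroup (N.subgroupOf L),
    Nat.card_congr (Subgroup.subgroupOfEquivOfLe hNL).toEquiv]

/-- An element acting trivially on the section `L/N` has `[g, L] ≤ N`. -/
theorem comm_mem_of_trivial (G L N : Subgroup X) (hLN : L ≤ Subgroup.normalizer (N : Set X))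
    (hGL : G ≤ Subgroup.normalizer (L : Set X))
    (hGN : G ≤ Subgroup.normalizer (N : Set X)) [(N.subgroupOf L).Normal] (g : ↥G)
    (hg : letI := sectAct G L N hGL hGN
      ∀ q : ↥L ⧸ N.subgroupOf L, g • q = q) (x : X) (hx : x ∈ L) :
    (g : X) * x * (g : X)⁻¹ * x⁻¹ ∈ N := by
  have h1 := hg (QuotientGroup.mk (⟨x, hx⟩ : ↥L))
  rw [sectAct_mk, eq_comm, QuotientGroup.eq, Subgroup.mem_subgroupOf] at h1
  have h2 : x⁻¹ * ((g : X) * x * (g : X)⁻¹) ∈ N := h1
  have h3 := (Subgroup.mem_normalizer_iff.mp (hLN hx) _).mp h2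
  have h4 : x * (x⁻¹ * ((g : X) * x * (g : X)⁻¹)) * x⁻¹ = (g : X) * x * (g : X)⁻¹ * x⁻¹ := by
    group
  rwa [h4] at h3

end

section
variable {X : Type*} [Group X] [Finite X]

/-- Fixed points on a section under a coprime action: `|C_{L/N}(A)| · |C_N(A)| = |C_L(A)|`. -/
theorem card_fixed_section (G L N A : Subgroup X) (hNL : N ≤ L)
    (hLN : L ≤ Subgroup.normalizer (N : Set X))
    (hGL : G ≤ Subgroup.normalizer (L : Set X)) (hGN : G ≤ Subgroup.normalizer (N : Set X))
    (hAG : A ≤ G) (hcop : (Nat.card A).Coprime (Nat.card L))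
    (hsolv : Group.IsSolvable A ∨ Group.IsSolvable L) [(N.subgroupOf L).Normal] :
    letI := sectAct G L N hGL hGN
    Nat.card {q : ↥L ⧸ N.subgroupOf L // ∀ a : ↥G, (a : X) ∈ A → a • q = q} *
      Nat.card ↥(N ⊓ Subgroup.centralizer (A : Set X)) =
      Nat.card ↥(L ⊓ Subgroup.centralizer (A : Set X)) := by
  letI := sectAct G L N hGL hGN
  let φ : ↥(L ⊓ Subgroup.centralizer (A : Set X)) →* (↥L ⧸ N.subgroupOf L) :=
    (QuotientGroup.mk' (N.subgroupOf L)).comp (Subgroup.inclusion inf_le_left)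
  have hφ : ∀ x : ↥(L ⊓ Subgroup.centralizer (A : Set X)),
      φ x = QuotientGroup.mk (⟨(x : X), x.2.1⟩ : ↥L) := fun _ => rfl
  have hle : N ⊓ Subgroup.centralizer (A : Set X) ≤ L ⊓ Subgroup.centralizer (A : Set X) :=
    inf_le_inf hNL le_rfl
  have hker : φ.ker = (N ⊓ Subgroup.centralizer (A : Set X)).subgroupOf
      (L ⊓ Subgroup.centralizer (A : Set X)) := by
    ext x
    rw [MonoidHom.mem_ker, hφ, QuotientGroup.eq_one_iff, Subgroup.mem_subgroupOf,
      Subgroup.mem_subgroupOf]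
    constructor
    · intro h
      exact ⟨h, x.2.2⟩
    · intro h
      exact h.1
  have hkercard : Nat.card φ.ker = Nat.card ↥(N ⊓ Subgroup.centralizer (A : Set X)) := by
    rw [hker]
    exact Nat.card_congr (Subgroup.subgroupOfEquivOfLe hle).toEquiv
  have hrange : ∀ q : ↥L ⧸ N.subgroupOf L,
      q ∈ φ.range ↔ ∀ a : ↥G, (a : X) ∈ A → a • q = q := by
    intro q
    constructor
    · rintro ⟨x, rfl⟩ a ha
      rw [hφ, sectAct_mk]
      congr 1
      apply Subtype.ext
      change (a : X) * (x : X) * (a : X)⁻¹ = (x : X)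
      have h1 := Subgroup.mem_centralizer_iff.mp x.2.2 (a : X) ha
      rw [h1, mul_inv_cancel_right]
    · intro hq
      induction q using QuotientGroup.induction_on with
      | _ k =>
        have hfix : ∀ a ∈ A, a * (k : X) * a⁻¹ * (k : X)⁻¹ ∈ N := by
          intro a ha
          have h1 := hq ⟨a, hAG ha⟩ ha
          rw [sectAct_mk, eq_comm, QuotientGroup.eq, Subgroup.mem_subgroupOf] at h1
          have h2 : (k : X)⁻¹ * (a * (k : X) * a⁻¹) ∈ N := h1
          have h3 := (Subgroup.mem_normalizer_iff.mp (hLN k.2) _).mp h2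
          have h4 : (k : X) * ((k : X)⁻¹ * (a * (k : X) * a⁻¹)) * (k : X)⁻¹ =
              a * (k : X) * a⁻¹ * (k : X)⁻¹ := by group
          rwa [h4] at h3
        obtain ⟨c, hc, hkc⟩ := Cfsg.Agent.S0022.result A L (hAG.trans hGL) hcop hsolv N hNL hLN
          (hAG.trans hGN) (k : X) k.2 hfix
        refine ⟨⟨c, hc⟩, ?_⟩
        rw [hφ, eq_comm, QuotientGroup.eq, Subgroup.mem_subgroupOf]
        exact hkc
  have hrangecard : Nat.card {q : ↥L ⧸ N.subgroupOf L // ∀ a : ↥G, (a : X) ∈ A → a • q = q} =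
      Nat.card φ.range :=
    Nat.card_congr (Equiv.subtypeEquivRight (fun q => (hrange q).symm))
  rw [hrangecard, ← hkercard, ← Subgroup.index_ker, mul_comm]
  exact Subgroup.card_mul_index φ.ker

/-- Fixed points on a section lift to fixed points (coprime action). -/
theorem fixed_section_lift (G L N A : Subgroup X) (hNL : N ≤ L)
    (hLN : L ≤ Subgroup.normalizer (N : Set X))
    (hGL : G ≤ Subgroup.normalizer (L : Set X)) (hGN : G ≤ Subgroup.normalizer (N : Set X))
    (hAG : A ≤ G) (hcop : (Nat.card A).Coprime (Nat.card L))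
    (hsolv : Group.IsSolvable A ∨ Group.IsSolvable L) [(N.subgroupOf L).Normal]
    (q : ↥L ⧸ N.subgroupOf L)
    (hq : letI := sectAct G L N hGL hGN
      ∀ a : ↥G, (a : X) ∈ A → a • q = q) :
    ∃ c : ↥L, (c : X) ∈ Subgroup.centralizer (A : Set X) ∧ q = QuotientGroup.mk c := by
  letI := sectAct G L N hGL hGN
  induction q using QuotientGroup.induction_on with
  | _ k =>
    have hfix : ∀ a ∈ A, a * (k : X) * a⁻¹ * (k : X)⁻¹ ∈ N := by
      intro a ha
      have h1 := hq ⟨a, hAG ha⟩ ha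
      rw [sectAct_mk, eq_comm, QuotientGroup.eq, Subgroup.mem_subgroupOf] at h1
      have h2 : (k : X)⁻¹ * (a * (k : X) * a⁻¹) ∈ N := h1
      have h3 := (Subgroup.mem_normalizer_iff.mp (hLN k.2) _).mp h2
      have h4 : (k : X) * ((k : X)⁻¹ * (a * (k : X) * a⁻¹)) * (k : X)⁻¹ =
          a * (k : X) * a⁻¹ * (k : X)⁻¹ := by group
      rwa [h4] at h3
    obtain ⟨c, hc, hkc⟩ := Cfsg.Agent.S0022.result A L (hAG.trans hGL) hcop hsolv N hNL hLN
      (hAG.trans hGN) (k : X) k.2 hfix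
    refine ⟨⟨c, hc.1⟩, hc.2, ?_⟩
    rw [QuotientGroup.eq, Subgroup.mem_subgroupOf]
    exact hkc

/-- In a group of prime order every nonidentity element generates. -/
theorem mem_zpowers_of_prime_card {Y : Type*} [Group Y] (C : Subgroup Y) {ℓ : ℕ} (hℓ : ℓ.Prime)
    (hC : Nat.card C = ℓ) (u u' : Y) (hu : u ∈ C) (hu' : u' ∈ C) (hu1 : u ≠ 1) :
    u' ∈ Subgroup.zpowers u := by
  have : Fact ℓ.Prime := ⟨hℓ⟩
  have h1 : Subgroup.zpowers (⟨u, hu⟩ : C) = ⊤ :=
    zpowers_eq_top_of_prime_card hC (fun h => hu1 (Subtype.ext_iff.mp h))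
  have h2 : (⟨u', hu'⟩ : C) ∈ Subgroup.zpowers (⟨u, hu⟩ : C) := by
    rw [h1]
    exact Subgroup.mem_top _
  obtain ⟨i, hi⟩ := Subgroup.mem_zpowers_iff.mp h2
  refine Subgroup.mem_zpowers_iff.mpr ⟨i, ?_⟩
  have h3 := Subtype.ext_iff.mp hi
  rw [Subgroup.coe_zpow] at h3
  exact h3

/-- The subgroup `[L, L] L^ℓ`. -/
def frat (ℓ : ℕ) (L : Subgroup X) : Subgroup X :=
  ⁅L, L⁆ ⊔ Subgroup.closure {y | ∃ x ∈ L, x ^ ℓ = y}

theorem comm_le_frat (ℓ : ℕ) (L : Subgroup X) : ⁅L, L⁆ ≤ frat ℓ L := le_sup_left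

theorem pow_mem_frat (ℓ : ℕ) (L : Subgroup X) (x : X) (hx : x ∈ L) : x ^ ℓ ∈ frat ℓ L :=
  Subgroup.mem_sup_right (Subgroup.subset_closure ⟨x, hx, rfl⟩)

theorem frat_le (ℓ : ℕ) (L : Subgroup X) : frat ℓ L ≤ L := by
  apply sup_le
  · exact Subgroup.commutator_le.mpr (fun a ha b hb => by
      rw [commutatorElement_def]
      exact L.mul_mem (L.mul_mem (L.mul_mem ha hb) (L.inv_mem ha)) (L.inv_mem hb))
  · rw [Subgroup.closure_le]
    rintro _ ⟨x, hx, rfl⟩
    exact L.pow_mem hx ℓ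

theorem normalizer_le_normalizer_frat (ℓ : ℕ) (L : Subgroup X) :
    Subgroup.normalizer (L : Set X) ≤ Subgroup.normalizer (frat ℓ L : Set X) := by
  intro g hg
  refine Cfsg.Agent.Lib.Helper61.normalizer_inf_le_normalizer_sup _ _
    ⟨Cfsg.Agent.Lib.Helper61.normalizer_inf_le_normalizer_commutator L L ⟨hg, hg⟩, ?_⟩
  change g ∈ Subgroup.normalizer (Subgroup.closure {y | ∃ x ∈ L, x ^ ℓ = y} : Set X)
  have key : ∀ c : X, c ∈ Subgroup.normalizer (L : Set X) →
      ∀ y ∈ Subgroup.closure {y | ∃ x ∈ L, x ^ ℓ = y},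
        c * y * c⁻¹ ∈ Subgroup.closure {y | ∃ x ∈ L, x ^ ℓ = y} := by
    intro c hc y hy
    induction hy using Subgroup.closure_induction with
    | mem y hy =>
      obtain ⟨x, hx, rfl⟩ := hy
      refine Subgroup.subset_closure ⟨c * x * c⁻¹, (Subgroup.mem_normalizer_iff.mp hc x).mp hx, ?_⟩
      rw [conj_pow]
    | one =>
      rw [mul_one, mul_inv_cancel]
      exact Subgroup.one_mem _
    | mul a b _ _ ha hb =>
      have h1 : c * (a * b) * c⁻¹ = (c * a * c⁻¹) * (c * b * c⁻¹) := by group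
      rw [h1]
      exact Subgroup.mul_mem _ ha hb
    | inv a _ ha =>
      have h1 : c * a⁻¹ * c⁻¹ = (c * a * c⁻¹)⁻¹ := by group
      rw [h1]
      exact Subgroup.inv_mem _ ha
  rw [Subgroup.mem_normalizer_iff]
  intro y
  constructor
  · exact key g hg y
  · intro hy
    have := key g⁻¹ (inv_mem hg) _ hy
    simpa [mul_assoc] using this

/-- A nontrivial solvable subgroup has `[L, L] L^ℓ < L` for some prime `ℓ` dividing `|L|`. -/
theorem exists_frat_ne (L : Subgroup X) (hsolv : Group.IsSolvable L) (hL : L ≠ ⊥) :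
    ∃ ℓ : ℕ, ℓ.Prime ∧ ℓ ∣ Nat.card L ∧ frat ℓ L ≠ L := by
  classical
  have hnon : Nontrivial ↥L := (Subgroup.nontrivial_iff_ne_bot L).mpr hL
  have hlt := Group.IsSolvable.commutator_lt_top_of_nontrivial ↥L
  have hAnon : Nontrivial (Abelianization ↥L) :=
    QuotientGroup.nontrivial_iff.mpr hlt.ne
  have hcard : 1 < Nat.card (Abelianization ↥L) := Finite.one_lt_card
  obtain ⟨ℓ, hℓ, hℓdvd⟩ := Nat.exists_prime_and_dvd hcard.ne'
  have hℓF : Fact ℓ.Prime := ⟨hℓ⟩
  refine ⟨ℓ, hℓ, ?_, ?_⟩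
  · exact hℓdvd.trans (Subgroup.card_quotient_dvd_card (commutator ↥L))
  · obtain ⟨a, ha⟩ := exists_prime_orderOf_dvd_card' (G := Abelianization ↥L) ℓ hℓdvd
    -- the ℓ-th power map on the abelianization is not surjective
    let pw : Abelianization ↥L →* Abelianization ↥L := powMonoidHom ℓ
    have hninj : ¬ Function.Injective pw := by
      intro hinj
      have h1 : pw a = pw 1 := by
        change a ^ ℓ = 1 ^ ℓ
        rw [one_pow, ← ha, pow_orderOf_eq_one]
      have h2 := hinj h1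
      rw [h2, orderOf_one] at ha
      exact hℓ.one_lt.ne ha
    have hnsurj : pw.range ≠ ⊤ := by
      intro h
      exact hninj (Finite.injective_iff_surjective.mpr (MonoidHom.range_eq_top.mp h))
    let π : ↥L →* Abelianization ↥L ⧸ pw.range :=
      (QuotientGroup.mk' pw.range).comp Abelianization.of
    intro hfr
    have hle : frat ℓ L ≤ (π.ker).map L.subtype := by
      apply sup_le
      · rw [Subgroup.commutator_le]
        intro a ha b hb
        refine ⟨⁅(⟨a, ha⟩ : ↥L), (⟨b, hb⟩ : ↥L)⁆, ?_, rfl⟩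
        rw [SetLike.mem_coe, MonoidHom.mem_ker, map_commutatorElement]
        rw [commutatorElement_def]
        have hc : ∀ u v : Abelianization ↥L ⧸ pw.range, u * v * u⁻¹ * v⁻¹ = 1 := by
          intro u v
          rw [mul_comm u v, mul_inv_cancel_right, mul_inv_cancel]
        exact hc _ _
      · rw [Subgroup.closure_le]
        rintro _ ⟨x, hx, rfl⟩
        refine ⟨(⟨x, hx⟩ : ↥L) ^ ℓ, ?_, rfl⟩
        rw [SetLike.mem_coe, MonoidHom.mem_ker, map_pow]
        change ((QuotientGroup.mk' pw.range) (Abelianization.of (⟨x, hx⟩ : ↥L))) ^ ℓ = 1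
        rw [← map_pow, QuotientGroup.mk'_apply, QuotientGroup.eq_one_iff]
        exact ⟨Abelianization.of (⟨x, hx⟩ : ↥L), rfl⟩
    have hkertop : ∀ x : ↥L, π x = 1 := by
      intro x
      have hx : (x : X) ∈ (π.ker).map L.subtype := hle (by rw [hfr]; exact x.2)
      obtain ⟨y, hy, hyx⟩ := hx
      have h1 : y = x := Subtype.ext hyx
      rw [← h1]
      exact hy
    have hQnon : Nontrivial (Abelianization ↥L ⧸ pw.range) :=
      QuotientGroup.nontrivial_iff.mpr hnsurj
    obtain ⟨q, hq⟩ := exists_ne (1 : Abelianization ↥L ⧸ pw.range)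
    obtain ⟨a, rfl⟩ := QuotientGroup.mk_surjective q
    obtain ⟨x, rfl⟩ := QuotientGroup.mk_surjective (s := commutator ↥L) a
    exact hq (hkertop x)

end

end Cfsg.Agent.Lib.Helper97.SectMod
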