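-- The fixed point formula for a Frobenius group acting coprimely on a solvable group
-- (internal form: all groups are subgroups of one finite group).
import Mathlib
import Cfsg.Agent.S0033
import Cfsg.Agent.Lib.Helper97.FrobCountMod
import Cfsg.Agent.Lib.Helper97.SectMod

set_option autoImplicit false

namespace Cfsg.Agent.Lib.Helper97.FrobFormula

open Subgroup
open Cfsg.Agent.Lib.Helper97.FrobCount Cfsg.Agent.Lib.Helper97.SectMod

section
variable {X : Type*} [Group X] [Finite X]

/-- A group admitting a fixed-point-free group of operators (given by conjugation with the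
elements of `E ≠ 1`) is nilpotent (Thompson). -/
theorem nilpotent_of_fpf (U E : Subgroup X) (hE1 : E ≠ ⊥)
    (hUn : ∀ e ∈ E, ∀ u ∈ U, e * u * e⁻¹ ∈ U)
    (hfpf : ∀ e ∈ E, e ≠ 1 → ∀ u ∈ U, e * u = u * e → u = 1) : Group.IsNilpotent U := by
  have hnon : Nontrivial ↥E := (Subgroup.nontrivial_iff_ne_bot E).mpr hE1
  have hcard : 1 < Nat.card ↥E := Finite.one_lt_card
  obtain ⟨p, hp, hpdvd⟩ := Nat.exists_prime_and_dvd hcard.ne'
  have hpF : Fact p.Prime := ⟨hp⟩
  obtain ⟨e, he⟩ := exists_prime_orderOf_dvd_card' (G := ↥E) p hpdvd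
  have he1 : (e : X) ≠ 1 := by
    intro h
    have h1 : e = 1 := Subtype.ext h
    rw [h1, orderOf_one] at he
    exact hp.one_lt.ne he
  have hep : (e : X) ^ p = 1 := by
    have h1 : e ^ p = 1 := by rw [← he]; exact pow_orderOf_eq_one e
    have h2 : ((e ^ p : ↥E) : X) = ((1 : ↥E) : X) := congrArg Subtype.val h1
    rw [Subgroup.coe_pow, Subgroup.coe_one] at h2
    exact h2
  let φ : ↥U →* ↥U :=
    { toFun := fun u => ⟨(e : X) * u * (e : X)⁻¹, hUn e e.2 u u.2⟩
      map_one' := Subtype.ext (by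
        change (e : X) * ((1 : ↥U) : X) * (e : X)⁻¹ = 1
        simp)
      map_mul' := fun a b => Subtype.ext (by
        change (e : X) * ((a * b : ↥U) : X) * (e : X)⁻¹ =
          ((e : X) * a * (e : X)⁻¹) * ((e : X) * b * (e : X)⁻¹)
        simp [mul_assoc]) }
  have hφ : MonoidHom.FixedPointFree φ := by
    intro u hu
    have h1 : (e : X) * u * (e : X)⁻¹ = u := congrArg Subtype.val hu
    have h2 : (e : X) * u = u * e := by
      calc (e : X) * u = ((e : X) * u * (e : X)⁻¹) * e := by group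
        _ = u * e := by rw [h1]
    exact Subtype.ext (hfpf e e.2 he1 u u.2 h2)
  have hiter : ∀ (k : ℕ) (u : ↥U), (((⇑φ)^[k] u : ↥U) : X) = (e : X) ^ k * u * ((e : X) ^ k)⁻¹ := by
    intro k
    induction k with
    | zero => intro u; simp
    | succ k ih =>
      intro u
      rw [Function.iterate_succ_apply', pow_succ']
      change (e : X) * (((⇑φ)^[k] u : ↥U) : X) * (e : X)⁻¹ = _
      rw [ih]
      group
  have hφp : (⇑φ)^[p] = _root_.id := by
    funext u
    apply Subtype.ext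
    rw [hiter, hep]
    simp
  exact Cfsg.Agent.S0033.fpf_nilpotent_of_iterate φ hφ hp hφp

/-- The fixed point counts for a subgroup `L` normalized by `U ⊔ E`. -/
theorem frob_formula_aux (U E H : Subgroup X)
    (hUn : ∀ e ∈ E, ∀ u ∈ U, e * u * e⁻¹ ∈ U)
    (hfpf : ∀ e ∈ E, e ≠ 1 → ∀ u ∈ U, e * u = u * e → u = 1)
    (hnil : Group.IsNilpotent U) (hsolv : Group.IsSolvable H)
    (hcop : Nat.Coprime (Nat.card H) (Nat.card ↥(U ⊔ E))) :
    ∀ n : ℕ, ∀ L : Subgroup X, Nat.card L ≤ n → L ≤ H →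
      U ⊔ E ≤ Subgroup.normalizer (L : Set X) →
      Nat.card ↥(L ⊓ Subgroup.centralizer ((U ⊔ E : Subgroup X) : Set X)) ^ Nat.card E *
          Nat.card L =
        Nat.card ↥(L ⊓ Subgroup.centralizer (E : Set X)) ^ Nat.card E *
          Nat.card ↥(L ⊓ Subgroup.centralizer (U : Set X)) := by
  intro n
  induction n with
  | zero =>
    intro L hcard
    exact absurd hcard (by have := Nat.card_pos (α := L); omega)
  | succ n ih =>
    intro L hcard hLH hGL
    by_cases hL : L = ⊥
    · subst hL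
      simp
    have hsolvL : Group.IsSolvable ↥L :=
      Group.isSolvable_of_isSolvable_injective (f := Subgroup.inclusion hLH)
        (Subgroup.inclusion_injective hLH)
    obtain ⟨ℓ, hℓ, hℓdvd, hne⟩ := exists_frat_ne L hsolvL hL
    set N := frat ℓ L with hN
    have hNL : N ≤ L := frat_le ℓ L
    have hLN : L ≤ Subgroup.normalizer (N : Set X) :=
      Subgroup.le_normalizer.trans (normalizer_le_normalizer_frat ℓ L)
    have hGN : U ⊔ E ≤ Subgroup.normalizer (N : Set X) :=
      hGL.trans (normalizer_le_normalizer_frat ℓ L)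
    have hNcard : Nat.card N ≤ n := by
      by_contra hcon
      exact hne (Subgroup.eq_of_le_of_card_ge hNL (by omega))
    have hIH := ih N hNcard (hNL.trans hLH) hGN
    -- the section
    haveI hnorm : (N.subgroupOf L).Normal := Subgroup.normal_subgroupOf_of_le_normalizer hLN
    letI cg : CommGroup (↥L ⧸ N.subgroupOf L) :=
      { (inferInstance : Group (↥L ⧸ N.subgroupOf L)) with
        mul_comm := section_comm L N (comm_le_frat ℓ L) }
    letI act : MulDistribMulAction ↥(U ⊔ E) (↥L ⧸ N.subgroupOf L) := sectAct (U ⊔ E) L N hGL hGN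
    have hexp : ∀ q : ↥L ⧸ N.subgroupOf L, q ^ ℓ = 1 := section_exp L N ℓ (pow_mem_frat ℓ L)
    have hℓG : ¬ ℓ ∣ Nat.card ↥(U ⊔ E) := by
      intro h
      have h1 : ℓ ∣ Nat.card H := hℓdvd.trans (Subgroup.card_dvd_of_le hLH)
      have h2 := Nat.dvd_gcd h1 h
      rw [Nat.Coprime] at hcop
      rw [hcop] at h2
      exact hℓ.one_lt.ne' (Nat.dvd_one.mp h2)
    -- subgroups of `U ⊔ E`
    have hGU : U ⊔ E ≤ Subgroup.normalizer (U : Set X) := by
      apply sup_le Subgroup.le_normalizer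
      intro e he
      rw [Subgroup.mem_normalizer_iff]
      intro u
      constructor
      · exact hUn e he u
      · intro h
        have h1 := hUn e⁻¹ (E.inv_mem he) _ h
        have h2 : e⁻¹ * (e * u * e⁻¹) * e⁻¹⁻¹ = u := by group
        rwa [h2] at h1
    haveI hUnorm : (U.subgroupOf (U ⊔ E)).Normal := Subgroup.normal_subgroupOf_of_le_normalizer hGU
    have hnil' : Group.IsNilpotent ↥(U.subgroupOf (U ⊔ E)) :=
      @Group.nilpotent_of_mulEquiv _ _ _ _ hnil (Subgroup.subgroupOfEquivOfLe le_sup_left).symm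
    have hfpf' : ∀ e ∈ E.subgroupOf (U ⊔ E), e ≠ 1 → ∀ u ∈ U.subgroupOf (U ⊔ E),
        e * u = u * e → u = 1 := by
      intro e he he1 u hu heu
      exact Subtype.ext (hfpf e he (fun h => he1 (Subtype.ext h)) u hu (congrArg Subtype.val heu))
    have hmod := frob_formula_module (G := ↥(U ⊔ E)) (V := ↥L ⧸ N.subgroupOf L)
      (U.subgroupOf (U ⊔ E)) (E.subgroupOf (U ⊔ E)) hnil' hfpf' hℓ hexp hℓG
    have hsupeq : U.subgroupOf (U ⊔ E) ⊔ E.subgroupOf (U ⊔ E) = (U ⊔ E).subgroupOf (U ⊔ E) :=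
      (Subgroup.subgroupOf_sup le_sup_left le_sup_right).symm
    rw [hsupeq] at hmod
    have hEcard : Nat.card ↥(E.subgroupOf (U ⊔ E)) = Nat.card E :=
      Nat.card_congr (Subgroup.subgroupOfEquivOfLe le_sup_right).toEquiv
    rw [hEcard] at hmod
    -- fixed points on the section
    have hfixcard : ∀ A : Subgroup X, A ≤ U ⊔ E →
        Nat.card (fixIn (A.subgroupOf (U ⊔ E)) (⊤ : Subgroup (↥L ⧸ N.subgroupOf L))) *
          Nat.card ↥(N ⊓ Subgroup.centralizer (A : Set X)) =
          Nat.card ↥(L ⊓ Subgroup.centralizer (A : Set X)) := by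
      intro A hA
      have hcopA : (Nat.card A).Coprime (Nat.card L) := by
        have h1 : (Nat.card ↥(U ⊔ E)).Coprime (Nat.card H) := hcop.symm
        exact Nat.Coprime.coprime_dvd_left (Subgroup.card_dvd_of_le hA)
          (Nat.Coprime.coprime_dvd_right (Subgroup.card_dvd_of_le hLH) h1)
      have h2 := card_fixed_section (U ⊔ E) L N A hNL hLN hGL hGN hA hcopA (Or.inr hsolvL)
      rw [← h2]
      congr 1
      exact Nat.card_congr (Equiv.subtypeEquivRight (fun q =>
        ⟨fun h a ha => h.2 a ha, fun h => ⟨Subgroup.mem_top _, fun a ha => h a ha⟩⟩))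
    have hG := hfixcard (U ⊔ E) le_rfl
    have hE := hfixcard E le_sup_right
    have hU := hfixcard U le_sup_left
    have hQ := card_section L N hNL
    rw [← hG, ← hE, ← hU, ← hQ, mul_pow, mul_pow]
    calc Nat.card (fixIn ((U ⊔ E).subgroupOf (U ⊔ E)) (⊤ : Subgroup (↥L ⧸ N.subgroupOf L))) ^ Nat.card E *
          Nat.card ↥(N ⊓ Subgroup.centralizer ((U ⊔ E : Subgroup X) : Set X)) ^ Nat.card E *
          (Nat.card (↥L ⧸ N.subgroupOf L) * Nat.card N)
        = (Nat.card (fixIn ((U ⊔ E).subgroupOf (U ⊔ E)) (⊤ : Subgroup (↥L ⧸ N.subgroupOf L))) ^ Nat.card E *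
            Nat.card (↥L ⧸ N.subgroupOf L)) *
          (Nat.card ↥(N ⊓ Subgroup.centralizer ((U ⊔ E : Subgroup X) : Set X)) ^ Nat.card E *
            Nat.card N) := by ring
      _ = (Nat.card (fixIn (E.subgroupOf (U ⊔ E)) (⊤ : Subgroup (↥L ⧸ N.subgroupOf L))) ^ Nat.card E *
            Nat.card (fixIn (U.subgroupOf (U ⊔ E)) (⊤ : Subgroup (↥L ⧸ N.subgroupOf L)))) *
          (Nat.card ↥(N ⊓ Subgroup.centralizer (E : Set X)) ^ Nat.card E *
            Nat.card ↥(N ⊓ Subgroup.centralizer (U : Set X))) := by rw [hmod, hIH]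
      _ = _ := by ring

/-- **Fixed point formula** for a Frobenius group `U ⋊ E` acting coprimely on a solvable
group `H`. -/
theorem frob_formula (U E H : Subgroup X)
    (hUn : ∀ e ∈ E, ∀ u ∈ U, e * u * e⁻¹ ∈ U)
    (hfpf : ∀ e ∈ E, e ≠ 1 → ∀ u ∈ U, e * u = u * e → u = 1)
    (hnil : Group.IsNilpotent U) (hGH : U ⊔ E ≤ Subgroup.normalizer (H : Set X))
    (hsolv : Group.IsSolvable H)
    (hcop : Nat.Coprime (Nat.card H) (Nat.card ↥(U ⊔ E))) :
    Nat.card ↥(H ⊓ Subgroup.centralizer ((U ⊔ E : Subgroup X) : Set X)) ^ Nat.card E *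
        Nat.card H =
      Nat.card ↥(H ⊓ Subgroup.centralizer (E : Set X)) ^ Nat.card E *
        Nat.card ↥(H ⊓ Subgroup.centralizer (U : Set X)) :=
  frob_formula_aux U E H hUn hfpf hnil hsolv hcop (Nat.card H) H le_rfl le_rfl hGH

end

end Cfsg.Agent.Lib.Helper97.FrobFormula
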