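import Mathlib

set_option autoImplicit false

namespace Cfsg.Agent.Lib.Helper97

section SchmidtCount

universe u

variable {G : Type u} [Group G]

/-- The map `(coset, h) ↦ rep * h * rep⁻¹`. -/
noncomputable def conjMap (H : Subgroup G) (p : (G ⧸ H) × H) : G :=
  p.1.out * (p.2 : G) * (p.1.out)⁻¹

theorem conjMap_exists (H : Subgroup G) (g h : G) (hh : h ∈ H) :
    ∃ p : (G ⧸ H) × H, conjMap H p = g * h * g⁻¹ ∧ ((p.2 : G) = 1 ↔ h = 1) := by
  obtain ⟨h₀, hh₀⟩ := QuotientGroup.mk_out_eq_mul H g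
  refine ⟨((g : G ⧸ H), ⟨(h₀ : G)⁻¹ * h * h₀, H.mul_mem (H.mul_mem (H.inv_mem h₀.2) hh) h₀.2⟩),
    ?_, ?_⟩
  · unfold conjMap
    simp only
    rw [hh₀]
    group
  · simp only
    constructor
    · intro h1
      have : h = (h₀ : G) * ((h₀ : G)⁻¹ * h * h₀) * (h₀ : G)⁻¹ := by group
      rw [this, h1]
      group
    · intro h1
      rw [h1]
      group

theorem conjMap_inj (H : Subgroup G)
    (hmal : ∀ g : G, ∀ h ∈ H, h ≠ 1 → g * h * g⁻¹ ∈ H → g ∈ H)
    {p p' : (G ⧸ H) × H} (hp : (p.2 : G) ≠ 1) (h : conjMap H p = conjMap H p') : p = p' := by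
  unfold conjMap at h
  have h1 : (p'.1.out)⁻¹ * p.1.out * (p.2 : G) * ((p'.1.out)⁻¹ * p.1.out)⁻¹ = (p'.2 : G) := by
    have : (p'.2 : G) = (p'.1.out)⁻¹ * (p'.1.out * (p'.2 : G) * (p'.1.out)⁻¹) * p'.1.out := by
      group
    rw [this, ← h]
    group
  have h2 : (p'.1.out)⁻¹ * p.1.out ∈ H := by
    apply hmal _ (p.2 : G) p.2.2 hp
    rw [h1]
    exact p'.2.2
  have h3 : p'.1 = p.1 := by
    rw [← QuotientGroup.out_eq' p'.1, ← QuotientGroup.out_eq' p.1]
    exact QuotientGroup.eq.2 h2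
  have h4 : (p.2 : G) = (p'.2 : G) := by
    rw [h3] at h
    exact mul_left_cancel (mul_right_cancel h)
  exact Prod.ext h3.symm (Subtype.ext h4)

/-- A finite group is not covered by the conjugates of a proper subgroup. -/
theorem exists_not_conj_mem [Finite G] (H : Subgroup G) (hH : H ≠ ⊤) :
    ∃ x : G, x ≠ 1 ∧ ∀ g : G, g * x * g⁻¹ ∉ H := by
  by_contra hcon
  push Not at hcon
  have hsurj : Function.Surjective (conjMap H) := by
    intro x
    by_cases hx : x = 1
    · refine ⟨((1 : G), 1), ?_⟩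
      unfold conjMap
      rw [hx]
      simp
    · obtain ⟨g, hg⟩ := hcon x hx
      obtain ⟨p, hp, -⟩ := conjMap_exists H g⁻¹ _ hg
      refine ⟨p, ?_⟩
      rw [hp]
      group
  have hcard : Nat.card ((G ⧸ H) × H) ≤ Nat.card G := by
    rw [Nat.card_prod, ← Subgroup.index_eq_card, Subgroup.index_mul_card]
  have hbij := hsurj.bijective_of_nat_card_le hcard
  obtain ⟨g₀, hg₀⟩ : ∃ g₀ : G, g₀ ∉ H := by
    by_contra h
    push Not at h
    exact hH (Subgroup.eq_top_iff' H |>.2 h)
  have h1 : conjMap H (((1 : G) : G ⧸ H), 1) = conjMap H ((g₀ : G ⧸ H), 1) := by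
    unfold conjMap
    simp
  have h2 := hbij.1 h1
  have h3 : ((1 : G) : G ⧸ H) = (g₀ : G ⧸ H) := congrArg Prod.fst h2
  have h4 := QuotientGroup.eq.1 h3
  apply hg₀
  simpa using h4

/-- Two malnormal subgroups with no non-identity conjugate elements in common cannot both be
non-trivial. -/
theorem false_of_two_malnormal [Finite G] (H K : Subgroup G)
    (hH : ∀ g : G, ∀ h ∈ H, h ≠ 1 → g * h * g⁻¹ ∈ H → g ∈ H)
    (hK : ∀ g : G, ∀ k ∈ K, k ≠ 1 → g * k * g⁻¹ ∈ K → g ∈ K)
    (hH1 : H ≠ ⊥) (hK1 : K ≠ ⊥)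
    (hdisj : ∀ g : G, ∀ h ∈ H, h ≠ 1 → g * h * g⁻¹ ∉ K) : False := by
  classical
  let Ψ : ((G ⧸ H) × H) ⊕ ((G ⧸ K) × K) → G ⊕ ((G ⧸ H) ⊕ (G ⧸ K)) := fun s =>
    match s with
    | Sum.inl p => if (p.2 : G) = 1 then Sum.inr (Sum.inl p.1) else Sum.inl (conjMap H p)
    | Sum.inr p => if (p.2 : G) = 1 then Sum.inr (Sum.inr p.1) else Sum.inl (conjMap K p)
  have hΨl : ∀ p : (G ⧸ H) × H, Ψ (Sum.inl p) =
      if (p.2 : G) = 1 then Sum.inr (Sum.inl p.1) else Sum.inl (conjMap H p) := fun _ => rfl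
  have hΨr : ∀ p : (G ⧸ K) × K, Ψ (Sum.inr p) =
      if (p.2 : G) = 1 then Sum.inr (Sum.inr p.1) else Sum.inl (conjMap K p) := fun _ => rfl
  have hcross : ∀ (p : (G ⧸ H) × H) (p' : (G ⧸ K) × K), (p.2 : G) ≠ 1 →
      conjMap H p ≠ conjMap K p' := by
    intro p p' hp h
    unfold conjMap at h
    apply hdisj ((p'.1.out)⁻¹ * p.1.out) (p.2 : G) p.2.2 hp
    have : (p'.1.out)⁻¹ * p.1.out * (p.2 : G) * ((p'.1.out)⁻¹ * p.1.out)⁻¹ =
        (p'.1.out)⁻¹ * (p.1.out * (p.2 : G) * (p.1.out)⁻¹) * p'.1.out := by group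
    rw [this, h]
    have h2 : (p'.1.out)⁻¹ * (p'.1.out * (p'.2 : G) * (p'.1.out)⁻¹) * p'.1.out = (p'.2 : G) := by
      group
    rw [h2]
    exact p'.2.2
  have hinj : Function.Injective Ψ := by
    rintro (p | p) (p' | p') h
    · rw [hΨl, hΨl] at h
      by_cases h1 : (p.2 : G) = 1
      · by_cases h2 : (p'.2 : G) = 1
        · rw [if_pos h1, if_pos h2] at h
          have h3 : p.1 = p'.1 := Sum.inl.inj (Sum.inr.inj h)
          congr 1
          exact Prod.ext h3 (Subtype.ext (h1.trans h2.symm))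
        · rw [if_pos h1, if_neg h2] at h
          exact absurd h (by simp)
      · by_cases h2 : (p'.2 : G) = 1
        · rw [if_neg h1, if_pos h2] at h
          exact absurd h (by simp)
        · rw [if_neg h1, if_neg h2] at h
          congr 1
          exact conjMap_inj H hH h1 (Sum.inl.inj h)
    · rw [hΨl, hΨr] at h
      by_cases h1 : (p.2 : G) = 1
      · by_cases h2 : (p'.2 : G) = 1
        · rw [if_pos h1, if_pos h2] at h
          exact absurd (Sum.inr.inj h) (by simp)
        · rw [if_pos h1, if_neg h2] at h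
          exact absurd h (by simp)
      · by_cases h2 : (p'.2 : G) = 1
        · rw [if_neg h1, if_pos h2] at h
          exact absurd h (by simp)
        · rw [if_neg h1, if_neg h2] at h
          exact absurd (Sum.inl.inj h) (hcross p p' h1)
    · rw [hΨr, hΨl] at h
      by_cases h1 : (p.2 : G) = 1
      · by_cases h2 : (p'.2 : G) = 1
        · rw [if_pos h1, if_pos h2] at h
          exact absurd (Sum.inr.inj h) (by simp)
        · rw [if_pos h1, if_neg h2] at h
          exact absurd h (by simp)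
      · by_cases h2 : (p'.2 : G) = 1
        · rw [if_neg h1, if_pos h2] at h
          exact absurd h (by simp)
        · rw [if_neg h1, if_neg h2] at h
          exact absurd (Sum.inl.inj h).symm (hcross p' p h2)
    · rw [hΨr, hΨr] at h
      by_cases h1 : (p.2 : G) = 1
      · by_cases h2 : (p'.2 : G) = 1
        · rw [if_pos h1, if_pos h2] at h
          have h3 : p.1 = p'.1 := Sum.inr.inj (Sum.inr.inj h)
          congr 1
          exact Prod.ext h3 (Subtype.ext (h1.trans h2.symm))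
        · rw [if_pos h1, if_neg h2] at h
          exact absurd h (by simp)
      · by_cases h2 : (p'.2 : G) = 1
        · rw [if_neg h1, if_pos h2] at h
          exact absurd h (by simp)
        · rw [if_neg h1, if_neg h2] at h
          congr 1
          exact conjMap_inj K hK h1 (Sum.inl.inj h)
  have hone : ∀ (L : Subgroup G) (p : (G ⧸ L) × L), (p.2 : G) ≠ 1 → conjMap L p ≠ 1 := by
    intro L p hp h
    unfold conjMap at h
    apply hp
    have : (p.2 : G) = (p.1.out)⁻¹ * (p.1.out * (p.2 : G) * (p.1.out)⁻¹) * p.1.out := by group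
    rw [this, h]
    group
  have hnot : (Sum.inl (1 : G) : G ⊕ ((G ⧸ H) ⊕ (G ⧸ K))) ∉ Set.range Ψ := by
    rintro ⟨(p | p), h⟩
    · rw [hΨl] at h
      by_cases h1 : (p.2 : G) = 1
      · rw [if_pos h1] at h
        exact absurd h (by simp)
      · rw [if_neg h1] at h
        exact hone H p h1 (Sum.inl.inj h)
    · rw [hΨr] at h
      by_cases h1 : (p.2 : G) = 1
      · rw [if_pos h1] at h
        exact absurd h (by simp)
      · rw [if_neg h1] at h
        exact hone K p h1 (Sum.inl.inj h)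
  let _i1 : Fintype (((G ⧸ H) × H) ⊕ ((G ⧸ K) × K)) := Fintype.ofFinite _
  let _i2 : Fintype (G ⊕ ((G ⧸ H) ⊕ (G ⧸ K))) := Fintype.ofFinite _
  have hlt := Fintype.card_lt_of_injective_of_notMem Ψ hinj hnot
  rw [← Nat.card_eq_fintype_card, ← Nat.card_eq_fintype_card, Nat.card_sum, Nat.card_sum,
    Nat.card_sum, Nat.card_prod, Nat.card_prod, ← Subgroup.index_eq_card, ← Subgroup.index_eq_card,
    Subgroup.index_mul_card, Subgroup.index_mul_card] at hlt
  have h1 : 1 < Nat.card H := (Subgroup.one_lt_card_iff_ne_bot H).2 hH1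
  have h2 : 1 < Nat.card K := (Subgroup.one_lt_card_iff_ne_bot K).2 hK1
  have h3 := Subgroup.index_mul_card H
  have h4 := Subgroup.index_mul_card K
  have h5 : H.index * 2 ≤ H.index * Nat.card H := Nat.mul_le_mul_left _ h1
  have h6 : K.index * 2 ≤ K.index * Nat.card K := Nat.mul_le_mul_left _ h2
  omega

end SchmidtCount


section SchmidtSolvable

universe u

variable {G : Type u} [Group G]

/-- The conjugate `{x | g x g⁻¹ ∈ H}` of a subgroup. -/
def conjSub (g : G) (H : Subgroup G) : Subgroup G :=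
  H.comap ((MulAut.conj g : G ≃* G) : G →* G)

theorem mem_conjSub {g : G} {H : Subgroup G} {x : G} : x ∈ conjSub g H ↔ g * x * g⁻¹ ∈ H :=
  Iff.rfl

theorem isCoatom_conjSub {g : G} {H : Subgroup G} (hH : IsCoatom H) : IsCoatom (conjSub g H) :=
  (Subgroup.isCoatom_comap (MulAut.conj g)).2 hH

theorem isSolvable_of_zpowers_eq_top {x : G} (hx : Subgroup.zpowers x = ⊤) : Group.IsSolvable G := by
  apply Group.isSolvable_of_comm
  intro a b
  have ha : a ∈ Subgroup.zpowers x := hx ▸ Subgroup.mem_top a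
  have hb : b ∈ Subgroup.zpowers x := hx ▸ Subgroup.mem_top b
  obtain ⟨i, rfl⟩ := Subgroup.mem_zpowers_iff.1 ha
  obtain ⟨j, rfl⟩ := Subgroup.mem_zpowers_iff.1 hb
  rw [← zpow_add, ← zpow_add, add_comm]

/-- In a nilpotent subgroup `M`, a proper subgroup `D < M` is normalised by some element of
`M` outside `D`. -/
theorem exists_normalizer_of_nilpotent {M D : Subgroup G} (hM : Group.IsNilpotent M)
    (hDM : D ≤ M) (hne : D ≠ M) :
    ∃ x ∈ M, x ∉ D ∧ x ∈ Subgroup.normalizer (D : Set G) := by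
  have h1 : D.subgroupOf M ≠ ⊤ := by
    intro h
    apply hne
    exact le_antisymm hDM (Subgroup.subgroupOf_eq_top.1 h)
  have h2 := Group.normalizerCondition_of_isNilpotent (G := M) (D.subgroupOf M)
    (lt_top_iff_ne_top.2 h1)
  obtain ⟨y, hy1, hy2⟩ := SetLike.exists_of_lt h2
  refine ⟨(y : G), y.2, ?_, ?_⟩
  · intro h
    exact hy2 (Subgroup.mem_subgroupOf.2 h)
  · rw [Subgroup.mem_normalizer_iff]
    intro g
    rw [Subgroup.mem_normalizer_iff] at hy1
    constructor
    · intro hg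
      have h3 := (hy1 ⟨g, hDM hg⟩).1 (Subgroup.mem_subgroupOf.2 hg)
      exact Subgroup.mem_subgroupOf.1 h3
    · intro hg
      have hgM : g ∈ M := by
        have h4 : g = (y : G)⁻¹ * ((y : G) * g * (y : G)⁻¹) * (y : G) := by group
        rw [h4]
        exact M.mul_mem (M.mul_mem (M.inv_mem y.2) (hDM hg)) y.2
      have h3 := (hy1 ⟨g, hgM⟩).2 (Subgroup.mem_subgroupOf.2 hg)
      exact Subgroup.mem_subgroupOf.1 h3

theorem solvable_of_coatoms_nilpotent_simple [Finite G]
    (h : ∀ M : Subgroup G, IsCoatom M → Group.IsNilpotent M)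
    (hsimple : ∀ N : Subgroup G, N.Normal → N = ⊥ ∨ N = ⊤) : Group.IsSolvable G := by
  by_contra hns
  have hcyc : ∀ x : G, Subgroup.zpowers x ≠ ⊤ := fun x hx => hns (isSolvable_of_zpowers_eq_top hx)
  have hcb : ∀ M : Subgroup G, IsCoatom M → M ≠ ⊥ := by
    rintro M hM rfl
    apply hns
    apply Group.isSolvable_of_comm
    have h1 : ∀ x : G, x = 1 := by
      intro x
      by_contra hx
      have h2 : (⊥ : Subgroup G) < Subgroup.zpowers x := by
        rw [bot_lt_iff_ne_bot]
        intro h3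
        exact hx (Subgroup.zpowers_eq_bot.1 h3)
      exact hcyc x (hM.2 _ h2)
    intro a b
    rw [h1 a, h1 b]
  have hself : ∀ M : Subgroup G, IsCoatom M → ∀ g : G,
      g ∈ Subgroup.normalizer (M : Set G) → g ∈ M := by
    intro M hM g hg
    by_contra hgM
    have h1 : M < Subgroup.normalizer (M : Set G) :=
      lt_of_le_of_ne Subgroup.le_normalizer (fun h2 => hgM (h2 ▸ hg))
    have h2 := hM.2 _ h1
    have h3 : M.Normal := Subgroup.normalizer_eq_top_iff.1 h2
    rcases hsimple M h3 with h4 | h4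
    · exact hcb M hM h4
    · exact hM.1 h4
  have hTI : ∀ M₁ M₂ : Subgroup G, IsCoatom M₁ → IsCoatom M₂ → M₁ ≠ M₂ → M₁ ⊓ M₂ = ⊥ := by
    by_contra hcon
    push Not at hcon
    obtain ⟨A, B, hA, hB, hAB, hD⟩ := hcon
    let T := {p : Subgroup G × Subgroup G // IsCoatom p.1 ∧ IsCoatom p.2 ∧ p.1 ≠ p.2 ∧
      p.1 ⊓ p.2 ≠ ⊥}
    have : Nonempty T := ⟨⟨(A, B), hA, hB, hAB, hD⟩⟩
    obtain ⟨⟨⟨M₁, M₂⟩, hM₁, hM₂, hne, hD⟩, hmax⟩ :=
      Finite.exists_max (fun p : T => Nat.card (p.1.1 ⊓ p.1.2 : Subgroup G))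
    simp only at hM₁ hM₂ hne hD hmax
    have hDnn : ¬ (M₁ ⊓ M₂).Normal := by
      intro hn
      rcases hsimple _ hn with h4 | h4
      · exact hD h4
      · exact hM₁.1 (top_le_iff.1 (h4 ▸ inf_le_left))
    have hNtop : Subgroup.normalizer ((M₁ ⊓ M₂ : Subgroup G) : Set G) ≠ ⊤ :=
      fun h4 => hDnn (Subgroup.normalizer_eq_top_iff.1 h4)
    obtain ⟨M₃, hM₃, hNM₃⟩ := (eq_top_or_exists_le_coatom _).resolve_left hNtop
    have hDM₃ : M₁ ⊓ M₂ ≤ M₃ := le_trans Subgroup.le_normalizer hNM₃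
    -- key: a coatom `M` containing `D` properly meets `M₃` in more than `D`
    have key : ∀ M : Subgroup G, IsCoatom M → M₁ ⊓ M₂ ≤ M → M₁ ⊓ M₂ ≠ M → M = M₃ := by
      intro M hM hDM hDne
      by_contra hMM₃
      obtain ⟨x, hxM, hxD, hxN⟩ := exists_normalizer_of_nilpotent (h M hM) hDM hDne
      have hle : M₁ ⊓ M₂ ≤ M ⊓ M₃ := le_inf hDM hDM₃
      have hx : x ∈ M ⊓ M₃ := ⟨hxM, hNM₃ hxN⟩
      have hne' : M ⊓ M₃ ≠ ⊥ := by
        intro h5
        apply hD
        rw [h5] at hle
        exact le_bot_iff.1 hle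
      have h6 := hmax ⟨(M, M₃), hM, hM₃, hMM₃, hne'⟩
      simp only at h6
      have h7 := Subgroup.eq_of_le_of_card_ge hle h6
      exact hxD (h7 ▸ hx)
    have h1 : M₁ = M₃ := by
      apply key M₁ hM₁ inf_le_left
      intro h5
      apply hne
      have : M₁ ≤ M₂ := h5 ▸ inf_le_right
      exact (hM₁.le_iff_eq hM₂.1 |>.1 this).symm
    have h2 : M₂ = M₃ := by
      apply key M₂ hM₂ inf_le_right
      intro h5
      apply hne
      have : M₂ ≤ M₁ := h5 ▸ inf_le_left
      exact hM₂.le_iff_eq hM₁.1 |>.1 this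
    exact hne (h1.trans h2.symm)
  have hmal : ∀ M : Subgroup G, IsCoatom M → ∀ g : G, ∀ m ∈ M, m ≠ 1 →
      g * m * g⁻¹ ∈ M → g ∈ M := by
    intro M hM g m hm hm1 hgm
    have hc := isCoatom_conjSub (g := g) hM
    have h1 : M = conjSub g M := by
      by_contra hne
      have h2 := hTI M (conjSub g M) hM hc hne
      have h3 : m ∈ M ⊓ conjSub g M := ⟨hm, mem_conjSub.2 hgm⟩
      rw [h2] at h3
      exact hm1 (Subgroup.mem_bot.1 h3)
    apply hself M hM
    rw [Subgroup.mem_normalizer_iff]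
    intro x
    constructor
    · intro hx
      rw [h1] at hx
      exact mem_conjSub.1 hx
    · intro hx
      rw [h1]
      exact mem_conjSub.2 hx
  have hbt : (⊥ : Subgroup G) ≠ ⊤ := by
    intro h1
    apply hns
    apply Group.isSolvable_of_comm
    have h2 : ∀ x : G, x = 1 := fun x => Subgroup.mem_bot.1 (h1 ▸ Subgroup.mem_top x)
    intro a b
    rw [h2 a, h2 b]
  obtain ⟨H, hH, -⟩ := (eq_top_or_exists_le_coatom (⊥ : Subgroup G)).resolve_left hbt
  obtain ⟨x, hx1, hx⟩ := exists_not_conj_mem H hH.1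
  obtain ⟨K, hK, hxK⟩ := (eq_top_or_exists_le_coatom (Subgroup.zpowers x)).resolve_left (hcyc x)
  have hxK' : x ∈ K := hxK (Subgroup.mem_zpowers x)
  apply false_of_two_malnormal H K (hmal H hH) (hmal K hK) (hcb H hH) (hcb K hK)
  intro g m hm hm1 hgm
  have hc := isCoatom_conjSub (g := g) hK
  have h1 : H = conjSub g K := by
    by_contra hne
    have h2 := hTI H (conjSub g K) hH hc hne
    have h3 : m ∈ H ⊓ conjSub g K := ⟨hm, mem_conjSub.2 hgm⟩
    rw [h2] at h3
    exact hm1 (Subgroup.mem_bot.1 h3)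
  apply hx g⁻¹
  rw [h1, mem_conjSub]
  have : g * (g⁻¹ * x * g⁻¹⁻¹) * g⁻¹ = x := by group
  rw [this]
  exact hxK'

theorem schmidt_solvable_aux : ∀ (n : ℕ) (G : Type u) [Group G] [Finite G], Nat.card G = n →
    (∀ M : Subgroup G, IsCoatom M → Group.IsNilpotent M) → Group.IsSolvable G := by
  intro n
  induction n using Nat.strong_induction_on with
  | _ n ih =>
    intro G _ _ hn h
    by_cases hs : ∀ N : Subgroup G, N.Normal → N = ⊥ ∨ N = ⊤
    · exact solvable_of_coatoms_nilpotent_simple h hs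
    · push Not at hs
      obtain ⟨N, hNn, hN0, hN1⟩ := hs
      have := hNn
      obtain ⟨M, hM, hNM⟩ := (eq_top_or_exists_le_coatom N).resolve_left hN1
      have := h M hM
      have : Group.IsSolvable N := Group.isSolvable_of_isSolvable_injective (Subgroup.inclusion_injective hNM)
      have hq : Group.IsSolvable (G ⧸ N) := by
        have hlt : Nat.card (G ⧸ N) < n := by
          rw [← hn, ← Subgroup.index_eq_card, ← Subgroup.index_mul_card N]
          have h1 : 1 < Nat.card N := (Subgroup.one_lt_card_iff_ne_bot N).2 hN0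
          have h2 : 0 < N.index := Nat.pos_of_ne_zero Subgroup.index_ne_zero_of_finite
          nlinarith
        apply ih (Nat.card (G ⧸ N)) hlt (G ⧸ N) rfl
        intro Mb hMb
        have hc := Subgroup.isCoatom_comap_of_surjective (QuotientGroup.mk'_surjective N) hMb
        have := h _ hc
        have hmap : (Mb.comap (QuotientGroup.mk' N)).map (QuotientGroup.mk' N) = Mb :=
          Subgroup.map_comap_eq_self_of_surjective (QuotientGroup.mk'_surjective N) Mb
        have h3 := Group.nilpotent_of_surjective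
          ((QuotientGroup.mk' N).subgroupMap (Mb.comap (QuotientGroup.mk' N)))
          (MonoidHom.subgroupMap_surjective _ _)
        exact hmap ▸ h3
      exact Group.isSolvable_of_ker_le_range N.subtype (QuotientGroup.mk' N) (by simp)

/-- Schmidt: a finite group all of whose maximal subgroups are nilpotent is solvable. -/
theorem schmidt_solvable [Finite G] (h : ∀ M : Subgroup G, IsCoatom M → Group.IsNilpotent M) :
    Group.IsSolvable G :=
  schmidt_solvable_aux (Nat.card G) G rfl h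

end SchmidtSolvable

end Cfsg.Agent.Lib.Helper97
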