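import Mathlib
import Cfsg.Agent.Lib.Helper97.Schmidt

set_option autoImplicit false

namespace Cfsg.Agent.Lib.Helper97

open scoped commutatorElement

section SchmidtStruct

universe u

variable {G : Type u} [Group G] [Finite G]

/-- A nontrivial finite solvable group has a normal subgroup of prime index. -/
theorem exists_normal_prime_index [Group.IsSolvable G] [Nontrivial G] :
    ∃ M : Subgroup G, M.Normal ∧ M.index.Prime := by
  have hc : commutator G < ⊤ := Group.IsSolvable.commutator_lt_top_of_nontrivial G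
  obtain ⟨M, hM, hcM⟩ := (eq_top_or_exists_le_coatom (commutator G)).resolve_left hc.ne
  have hMn : M.Normal := by
    refine ⟨fun n hn g => ?_⟩
    have h1 : g * n * g⁻¹ = ⁅g, n⁆ * n := by
      rw [commutatorElement_def]
      group
    rw [h1]
    apply M.mul_mem _ hn
    apply hcM
    rw [commutator_def]
    exact Subgroup.commutator_mem_commutator (Subgroup.mem_top g) (Subgroup.mem_top n)
  refine ⟨M, hMn, ?_⟩
  have hidx : M.index ≠ 1 := fun h => hM.1 (Subgroup.index_eq_one.1 h)
  have hr : (Nat.minFac M.index).Prime := Nat.minFac_prime hidx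
  have := Fact.mk hr
  have hdvd : Nat.minFac M.index ∣ Nat.card (G ⧸ M) := by
    rw [← Subgroup.index_eq_card]
    exact Nat.minFac_dvd _
  obtain ⟨yb, hyb⟩ := exists_prime_orderOf_dvd_card' (G := G ⧸ M) (Nat.minFac M.index) hdvd
  obtain ⟨y, rfl⟩ := QuotientGroup.mk_surjective yb
  have hyM : y ∉ M := by
    intro hy
    have h1 : (y : G ⧸ M) = 1 := (QuotientGroup.eq_one_iff y).2 hy
    rw [h1, orderOf_one] at hyb
    exact hr.one_lt.ne hyb
  have hsup : M ⊔ Subgroup.zpowers y = ⊤ := by
    apply hM.2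
    apply lt_of_le_of_ne le_sup_left
    intro h1
    apply hyM
    rw [h1]
    exact (le_sup_right : Subgroup.zpowers y ≤ M ⊔ Subgroup.zpowers y) (Subgroup.mem_zpowers y)
  have hmap := congrArg (Subgroup.map (QuotientGroup.mk' M)) hsup
  rw [Subgroup.map_sup, QuotientGroup.map_mk'_self, bot_sup_eq, MonoidHom.map_zpowers,
    Subgroup.map_top_of_surjective _ (QuotientGroup.mk'_surjective M)] at hmap
  have hcard : Nat.card (G ⧸ M) = Nat.minFac M.index := by
    rw [← hyb, ← Nat.card_zpowers, ← Subgroup.card_top (G := G ⧸ M)]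
    congr 1
    exact congrArg (fun S : Subgroup (G ⧸ M) => (S : Type u)) hmap.symm
  rw [Subgroup.index_eq_card, hcard]
  exact hr

theorem sylow_le_of_index_prime {M : Subgroup G} [M.Normal] (hrp : M.index.Prime) {q : ℕ}
    [Fact q.Prime] (hq : q ≠ M.index) (Q : Sylow q G) : (Q : Subgroup G) ≤ M := by
  rw [← Subgroup.relIndex_eq_one]
  have h1 : M.relIndex (Q : Subgroup G) ∣ M.index := Subgroup.relIndex_dvd_index_of_normal M _
  have h2 : M.relIndex (Q : Subgroup G) ∣ Nat.card (Q : Subgroup G) :=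
    Subgroup.relIndex_dvd_card M _
  obtain ⟨n, hn⟩ := IsPGroup.iff_card.1 Q.isPGroup'
  rw [hn] at h2
  have hcop : Nat.Coprime M.index (q ^ n) :=
    Nat.Coprime.pow_right n ((Nat.coprime_primes hrp Fact.out).2 (Ne.symm hq))
  have h3 := Nat.dvd_gcd h1 h2
  rw [hcop] at h3
  exact Nat.dvd_one.1 h3

theorem sylow_normal_of_le_nilpotent {M : Subgroup G} (hMn : Group.IsNilpotent M) {q : ℕ}
    [Fact q.Prime] (hall : ∀ Q : Sylow q G, (Q : Subgroup G) ≤ M) (Q : Sylow q G) :
    (Q : Subgroup G).Normal := by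
  have huniq : ∀ Q₁ Q₂ : Sylow q G, Q₁ = Q₂ := by
    intro Q₁ Q₂
    have hn : ((Q₁.subtype (hall Q₁) : Sylow q M) : Subgroup M).Normal :=
      Sylow.normal_of_normalizerCondition Group.normalizerCondition_of_isNilpotent _
    have hu := Sylow.unique_of_normal _ hn
    have h1 : Q₁.subtype (hall Q₁) = Q₂.subtype (hall Q₂) := Subsingleton.elim _ _
    have h2 := congrArg (fun S : Sylow q M => (S : Subgroup M)) h1
    simp only [Sylow.coe_subtype] at h2
    rw [Subgroup.subgroupOf_inj, inf_eq_left.2 (hall Q₁), inf_eq_left.2 (hall Q₂)] at h2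
    exact Sylow.ext h2
  rw [← Subgroup.normalizer_eq_top_iff, eq_top_iff]
  intro g _
  exact Sylow.smul_eq_iff_mem_normalizer.1 (huniq _ _)

theorem le_normalizer_of_nilpotent {K : Subgroup G} (hK : Group.IsNilpotent K) {p : ℕ}
    [Fact p.Prime] (P : Sylow p G) (hPK : (P : Subgroup G) ≤ K) :
    K ≤ Subgroup.normalizer ((P : Subgroup G) : Set G) := by
  have h1 : ((P.subtype hPK : Sylow p K) : Subgroup K).Normal :=
    Sylow.normal_of_normalizerCondition Group.normalizerCondition_of_isNilpotent _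
  rw [Sylow.coe_subtype] at h1
  exact (Subgroup.normal_subgroupOf_iff_le_normalizer hPK).1 h1

theorem commute_of_nilpotent_coprime {K : Subgroup G} (hK : Group.IsNilpotent K) {p q : ℕ}
    [Fact p.Prime] [Fact q.Prime] (hpq : p ≠ q) {x u : G} (hx : x ∈ K) (hu : u ∈ K)
    (hxp : ∃ k, orderOf x = p ^ k) (huq : ∃ k, orderOf u = q ^ k) : x * u = u * x := by
  have h1 : IsPGroup p (Subgroup.zpowers (⟨x, hx⟩ : K)) := by
    obtain ⟨k, hk⟩ := hxp
    apply IsPGroup.of_card (n := k)
    rw [Nat.card_zpowers, ← hk]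
    exact Subgroup.orderOf_mk x hx
  have h2 : IsPGroup q (Subgroup.zpowers (⟨u, hu⟩ : K)) := by
    obtain ⟨k, hk⟩ := huq
    apply IsPGroup.of_card (n := k)
    rw [Nat.card_zpowers, ← hk]
    exact Subgroup.orderOf_mk u hu
  obtain ⟨Sp, hSp⟩ := h1.exists_le_sylow
  obtain ⟨Sq, hSq⟩ := h2.exists_le_sylow
  have hnp : (Sp : Subgroup K).Normal :=
    Sylow.normal_of_normalizerCondition Group.normalizerCondition_of_isNilpotent _
  have hnq : (Sq : Subgroup K).Normal :=
    Sylow.normal_of_normalizerCondition Group.normalizerCondition_of_isNilpotent _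
  have hdisj := IsPGroup.disjoint_of_ne p q hpq (Sp : Subgroup K) (Sq : Subgroup K)
    Sp.isPGroup' Sq.isPGroup'
  have hc := Subgroup.commute_of_normal_of_disjoint _ _ hnp hnq hdisj ⟨x, hx⟩ ⟨u, hu⟩
    (hSp (Subgroup.mem_zpowers _)) (hSq (Subgroup.mem_zpowers _))
  exact congrArg Subtype.val hc.eq

/-- Structure of minimal non-nilpotent groups (Schmidt). -/
theorem schmidt_structure (hnn : ¬ Group.IsNilpotent G)
    (hprop : ∀ H : Subgroup G, H ≠ ⊤ → Group.IsNilpotent H) :
    ∃ p q : ℕ, p.Prime ∧ q.Prime ∧ p ≠ q ∧ ∃ (P : Sylow p G) (Q : Sylow q G),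
      IsCyclic P ∧ (Q : Subgroup G).Normal ∧ (P : Subgroup G) ⊔ Q = ⊤ := by
  have hsolv : Group.IsSolvable G := schmidt_solvable (fun M hM => hprop M hM.1)
  have hnt : Nontrivial G := by
    by_contra h
    rw [not_nontrivial_iff_subsingleton] at h
    exact hnn inferInstance
  obtain ⟨M, hMn, hMp⟩ := exists_normal_prime_index (G := G)
  have hMtop : M ≠ ⊤ := by
    rintro rfl
    rw [Subgroup.index_top] at hMp
    exact Nat.not_prime_one hMp
  have hMnil := hprop M hMtop
  have hp := Fact.mk hMp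
  have hqn : ∀ q : ℕ, q.Prime → q ≠ M.index → ∀ Q : Sylow q G, (Q : Subgroup G).Normal := by
    intro q hq hqp Q
    have := Fact.mk hq
    exact sylow_normal_of_le_nilpotent hMnil (fun Q' => sylow_le_of_index_prime hMp hqp Q') Q
  have hex : ∃ P : Sylow M.index G, ¬ (P : Subgroup G).Normal := by
    by_contra hall
    push Not at hall
    apply hnn
    apply ((Group.isNilpotent_of_finite_tfae (G := G)).out 0 3).2
    intro q hq Q
    by_cases hqp : q = M.index
    · subst hqp
      exact hall Q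
    · exact hqn q hq.out hqp Q
  obtain ⟨P, hPn⟩ := hex
  have hstep5 : ∃ q : ℕ, q.Prime ∧ q ≠ M.index ∧ ∃ Q : Sylow q G, (P : Subgroup G) ⊔ Q = ⊤ := by
    by_contra hno
    push Not at hno
    apply hPn
    rw [← Subgroup.normalizer_eq_top_iff, ← Subgroup.index_eq_one,
      Nat.eq_one_iff_not_exists_prime_dvd]
    intro q hq hdvd
    have := Fact.mk hq
    by_cases hqp : q = M.index
    · subst hqp
      exact P.not_dvd_index (dvd_trans hdvd (Subgroup.index_dvd_of_le Subgroup.le_normalizer))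
    · let Q : Sylow q G := Classical.arbitrary _
      have hK := hprop _ (hno q hq hqp Q)
      have h1 := le_normalizer_of_nilpotent hK P le_sup_left
      have h2 : (Q : Subgroup G) ≤ Subgroup.normalizer ((P : Subgroup G) : Set G) :=
        le_trans le_sup_right h1
      exact Q.not_dvd_index (dvd_trans hdvd (Subgroup.index_dvd_of_le h2))
  obtain ⟨q, hq, hqp, Q, hPQ⟩ := hstep5
  have hqf := Fact.mk hq
  have hQn := hqn q hq hqp Q
  refine ⟨M.index, q, hMp, hq, Ne.symm hqp, P, Q, ?_, hQn, hPQ⟩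
  by_contra hnc
  apply hPn
  have hdisj : Disjoint (P : Subgroup G) (Q : Subgroup G) :=
    IsPGroup.disjoint_of_ne M.index q (Ne.symm hqp) _ _ P.isPGroup' Q.isPGroup'
  have hcomm : ∀ x ∈ (P : Subgroup G), ∀ u ∈ (Q : Subgroup G), x * u = u * x := by
    intro x hx u hu
    have hKtop : Subgroup.zpowers x ⊔ (Q : Subgroup G) ≠ ⊤ := by
      intro hK
      apply hnc
      have hPle : ∀ y ∈ (P : Subgroup G), y ∈ Subgroup.zpowers x := by
        intro y hy
        have hy' : y ∈ Subgroup.zpowers x ⊔ (Q : Subgroup G) := hK ▸ Subgroup.mem_top y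
        obtain ⟨a, ha, b, hb, hab⟩ := Subgroup.mem_sup_of_normal_right.1 hy'
        have haP : a ∈ (P : Subgroup G) :=
          (Subgroup.zpowers_le.2 hx) ha
        have hbP : b ∈ (P : Subgroup G) := by
          have : b = a⁻¹ * y := by rw [← hab]; group
          rw [this]
          exact Subgroup.mul_mem _ (Subgroup.inv_mem _ haP) hy
        have hb1 : b = 1 := by
          have := hdisj.le_bot (show b ∈ (P : Subgroup G) ⊓ (Q : Subgroup G) from ⟨hbP, hb⟩)
          exact Subgroup.mem_bot.1 this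
        rw [← hab, hb1, mul_one]
        exact ha
      refine ⟨⟨⟨x, hx⟩, fun y => ?_⟩⟩
      obtain ⟨i, hi⟩ := Subgroup.mem_zpowers_iff.1 (hPle y y.2)
      refine Subgroup.mem_zpowers_iff.2 ⟨i, ?_⟩
      apply Subtype.ext
      rw [Subgroup.coe_zpow]
      exact hi
    have hK := hprop _ hKtop
    have hxo : ∃ k, orderOf x = M.index ^ k := by
      obtain ⟨k, hk⟩ := (IsPGroup.iff_orderOf.1 P.isPGroup') ⟨x, hx⟩
      exact ⟨k, by rw [← hk]; exact (Subgroup.orderOf_mk x hx).symm⟩
    have huo : ∃ k, orderOf u = q ^ k := by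
      obtain ⟨k, hk⟩ := (IsPGroup.iff_orderOf.1 Q.isPGroup') ⟨u, hu⟩
      exact ⟨k, by rw [← hk]; exact (Subgroup.orderOf_mk u hu).symm⟩
    exact commute_of_nilpotent_coprime hK (Ne.symm hqp)
      ((le_sup_left : Subgroup.zpowers x ≤ _) (Subgroup.mem_zpowers x))
      ((le_sup_right : (Q : Subgroup G) ≤ _) hu) hxo huo
  rw [← Subgroup.normalizer_eq_top_iff, eq_top_iff, ← hPQ]
  apply sup_le Subgroup.le_normalizer
  intro u hu
  rw [Subgroup.mem_normalizer_iff]
  intro x
  constructor
  · intro hx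
    have h1 : u * x * u⁻¹ = x := by
      rw [← hcomm x hx u hu, mul_inv_cancel_right]
    rw [h1]
    exact hx
  · intro hx
    have h1 := hcomm _ hx u hu
    have h2 : x = u * x * u⁻¹ := by
      have h3 : u * x * u⁻¹ * u = u * (u * x * u⁻¹) := h1
      have h4 : u * x * u⁻¹ * u = u * x := by group
      rw [h4] at h3
      exact mul_left_cancel h3
    rw [h2]
    exact hx

end SchmidtStruct

end Cfsg.Agent.Lib.Helper97
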