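import Mathlib
import Cfsg.Prelude.Def_Transfer
import Cfsg.Agent.Lib.Helper97.SchmidtStruct

set_option autoImplicit false

namespace Cfsg.Agent.Lib.Helper97

section MillerMoreno

universe u

variable {G : Type u} [Group G]

theorem isNilpotent_of_comm {H : Type*} [Group H] (h : ∀ a b : H, a * b = b * a) :
    Group.IsNilpotent H := by
  let _i : CommGroup H := { (inferInstance : Group H) with mul_comm := h }
  exact CommGroup.isNilpotent

theorem comm_of_isMulCommutative {H : Subgroup G} (hH : IsMulCommutative H) {x y : G}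
    (hx : x ∈ H) (hy : y ∈ H) : x * y = y * x :=
  congrArg Subtype.val (mul_comm' (⟨x, hx⟩ : H) ⟨y, hy⟩)

theorem isNilpotent_of_isMulCommutative {H : Subgroup G} (hH : IsMulCommutative H) :
    Group.IsNilpotent H :=
  isNilpotent_of_comm (fun a b => mul_comm' a b)

/-- The elements of order dividing `q` in a commutative subgroup. -/
def omegaSub (Q : Subgroup G) (hQ : ∀ a ∈ Q, ∀ b ∈ Q, a * b = b * a) (q : ℕ) : Subgroup G where
  carrier := {u | u ∈ Q ∧ u ^ q = 1}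
  mul_mem' := by
    rintro a b ⟨ha, ha'⟩ ⟨hb, hb'⟩
    refine ⟨Q.mul_mem ha hb, ?_⟩
    have hc : Commute a b := hQ a ha b hb
    rw [hc.mul_pow, ha', hb', one_mul]
  one_mem' := ⟨Q.one_mem, one_pow q⟩
  inv_mem' := by
    rintro a ⟨ha, ha'⟩
    exact ⟨Q.inv_mem ha, by rw [inv_pow, ha', inv_one]⟩

theorem mem_omegaSub {Q : Subgroup G} {hQ : ∀ a ∈ Q, ∀ b ∈ Q, a * b = b * a} {q : ℕ} {u : G} :
    u ∈ omegaSub Q hQ q ↔ u ∈ Q ∧ u ^ q = 1 := Iff.rfl

theorem omegaSub_normal {Q : Subgroup G} [hQn : Q.Normal]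
    (hQ : ∀ a ∈ Q, ∀ b ∈ Q, a * b = b * a) (q : ℕ) : (omegaSub Q hQ q).Normal := by
  refine ⟨fun u hu g => ?_⟩
  obtain ⟨hu1, hu2⟩ := hu
  refine ⟨hQn.conj_mem u hu1 g, ?_⟩
  rw [conj_pow, hu2, mul_one, mul_inv_cancel]

/-- If `x` of order prime to `q` normalises the commutative `q`-group `Q` and centralises its
elements of order dividing `q`, then it centralises `Q`. -/
theorem comm_of_comm_omega {Q : Subgroup G} [hQn : Q.Normal]
    (hQ : ∀ a ∈ Q, ∀ b ∈ Q, a * b = b * a) {q : ℕ} {x : G} (hcop : Nat.Coprime (orderOf x) q)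
    (hΩ : ∀ w ∈ omegaSub Q hQ q, x * w = w * x) :
    ∀ (j : ℕ) (u : G), u ∈ Q → u ^ q ^ j = 1 → x * u = u * x := by
  intro j
  induction j with
  | zero =>
    intro u _ hu
    rw [pow_zero, pow_one] at hu
    rw [hu, mul_one, one_mul]
  | succ j ih =>
    intro u hu huj
    have h1 : (u ^ q) ^ q ^ j = 1 := by
      rw [← pow_mul, ← pow_succ']
      exact huj
    have h2 : x * u ^ q = u ^ q * x := ih (u ^ q) (Q.pow_mem hu q) h1
    have hxu : x * u * x⁻¹ ∈ Q := hQn.conj_mem u hu x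
    have hcQ : u⁻¹ * (x * u * x⁻¹) ∈ Q := Q.mul_mem (Q.inv_mem hu) hxu
    have hcq : (u⁻¹ * (x * u * x⁻¹)) ^ q = 1 := by
      have hc : Commute u⁻¹ (x * u * x⁻¹) := hQ _ (Q.inv_mem hu) _ hxu
      rw [hc.mul_pow, conj_pow, h2, mul_inv_cancel_right, inv_pow, inv_mul_cancel]
    have hcΩ : u⁻¹ * (x * u * x⁻¹) ∈ omegaSub Q hQ q := ⟨hcQ, hcq⟩
    have hxc := hΩ _ hcΩ
    obtain ⟨c, hc⟩ : ∃ c : G, c = u⁻¹ * (x * u * x⁻¹) := ⟨_, rfl⟩
    rw [← hc] at hcq hxc
    have hxuc : x * u * x⁻¹ = u * c := by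
      rw [hc]
      group
    have hpow : ∀ n : ℕ, x ^ n * u * (x ^ n)⁻¹ = u * c ^ n := by
      intro n
      induction n with
      | zero => simp
      | succ n ihn =>
        have hxcn : x * c ^ n = c ^ n * x := (Commute.pow_right hxc n).eq
        have h3 : x ^ (n + 1) * u * (x ^ (n + 1))⁻¹ = x * (x ^ n * u * (x ^ n)⁻¹) * x⁻¹ := by
          rw [pow_succ']
          group
        have h4 : x * (u * c ^ n) * x⁻¹ = (x * u * x⁻¹) * (x * c ^ n * x⁻¹) := by group
        rw [h3, ihn, h4, hxcn, mul_inv_cancel_right, hxuc, pow_succ', mul_assoc]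
    have h5 := hpow (orderOf x)
    rw [pow_orderOf_eq_one, one_mul, inv_one, mul_one] at h5
    have h6 : c ^ orderOf x = 1 := by
      have : u * c ^ orderOf x = u * 1 := by rw [← h5, mul_one]
      exact mul_left_cancel this
    have h7 := pow_gcd_eq_one.2 ⟨h6, hcq⟩
    rw [Nat.Coprime.gcd_eq_one hcop, pow_one] at h7
    have h8 : x * u * x⁻¹ = u := by rw [hxuc, h7, mul_one]
    calc x * u = x * u * x⁻¹ * x := by group
      _ = u * x := by rw [h8]

end MillerMoreno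

section MillerMorenoMain

universe u

variable {G : Type u} [Group G] [Finite G]

theorem miller_moreno (hna : ¬ IsMulCommutative G)
    (h : ∀ H : Subgroup G, H ≠ ⊤ → IsMulCommutative H) :
    (∃ p : ℕ, p.Prime ∧ IsPGroup p G) ∨ ∃ p q : ℕ, p.Prime ∧ q.Prime ∧ p ≠ q ∧
      ∃ (P : Sylow p G) (Q : Sylow q G), IsCyclic P ∧ (Q : Subgroup G).Normal ∧
        Cfsg.IsElementaryAbelian q (Q : Subgroup G) ∧ (P : Subgroup G) ⊔ Q = ⊤ := by
  have hprop : ∀ H : Subgroup G, H ≠ ⊤ → Group.IsNilpotent H :=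
    fun H hH => isNilpotent_of_isMulCommutative (h H hH)
  by_cases hnil : Group.IsNilpotent G
  · left
    by_cases hex : ∃ (r : ℕ) (_ : Fact r.Prime) (R : Sylow r G), (R : Subgroup G) = ⊤
    · obtain ⟨r, hr, R, hR⟩ := hex
      refine ⟨r, hr.out, ?_⟩
      intro g
      obtain ⟨k, hk⟩ := R.isPGroup' ⟨g, hR ▸ Subgroup.mem_top g⟩
      exact ⟨k, congrArg Subtype.val hk⟩
    · exfalso
      push Not at hex
      apply hna
      obtain ⟨e⟩ := ((Group.isNilpotent_of_finite_tfae (G := G)).out 0 4).1 hnil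
      rw [isMulCommutative_iff]
      intro a b
      obtain ⟨x, rfl⟩ := e.surjective a
      obtain ⟨y, rfl⟩ := e.surjective b
      rw [← map_mul, ← map_mul]
      congr 1
      funext p P
      have hp : Fact (p : ℕ).Prime := ⟨Nat.prime_of_mem_primeFactors p.2⟩
      have hc := h (P : Subgroup G) (hex p hp P)
      exact mul_comm' (x p P) (y p P)
  · right
    obtain ⟨p, q, hp, hq, hpq, P, Q, hPc, hQn, hPQ⟩ := schmidt_structure hnil hprop
    have hpf := Fact.mk hp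
    have hqf := Fact.mk hq
    have hQtop : (Q : Subgroup G) ≠ ⊤ := by
      intro hQ
      apply hnil
      have hG : IsPGroup q G := by
        intro g
        obtain ⟨k, hk⟩ := Q.isPGroup' ⟨g, hQ ▸ Subgroup.mem_top g⟩
        exact ⟨k, congrArg Subtype.val hk⟩
      exact hG.isNilpotent
    have hPtop : (P : Subgroup G) ≠ ⊤ := by
      intro hP
      apply hnil
      have hG : IsPGroup p G := by
        intro g
        obtain ⟨k, hk⟩ := P.isPGroup' ⟨g, hP ▸ Subgroup.mem_top g⟩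
        exact ⟨k, congrArg Subtype.val hk⟩
      exact hG.isNilpotent
    have hQc := h _ hQtop
    have hPc' := h _ hPtop
    have hQcomm : ∀ a ∈ (Q : Subgroup G), ∀ b ∈ (Q : Subgroup G), a * b = b * a :=
      fun a ha b hb => comm_of_isMulCommutative hQc ha hb
    have hdisj : Disjoint (P : Subgroup G) (Q : Subgroup G) :=
      IsPGroup.disjoint_of_ne p q hpq _ _ P.isPGroup' Q.isPGroup'
    refine ⟨p, q, hp, hq, hpq, P, Q, hPc, hQn, ⟨hQc, ?_⟩, hPQ⟩
    by_contra hexp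
    push Not at hexp
    obtain ⟨a, ha, haq⟩ := hexp
    have hΩn : (omegaSub (Q : Subgroup G) hQcomm q).Normal := omegaSub_normal hQcomm q
    have hΩtop : (P : Subgroup G) ⊔ omegaSub (Q : Subgroup G) hQcomm q ≠ ⊤ := by
      intro htop
      have ha' : a ∈ (P : Subgroup G) ⊔ omegaSub (Q : Subgroup G) hQcomm q :=
        htop ▸ Subgroup.mem_top a
      obtain ⟨x, hx, w, hw, hxw⟩ := Subgroup.mem_sup_of_normal_right.1 ha'
      have hxQ : x ∈ (Q : Subgroup G) := by
        have : x = a * w⁻¹ := by rw [← hxw]; group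
        rw [this]
        exact Subgroup.mul_mem _ ha (Subgroup.inv_mem _ hw.1)
      have hx1 : x = 1 :=
        Subgroup.mem_bot.1 (hdisj.le_bot (show x ∈ (P : Subgroup G) ⊓ (Q : Subgroup G) from
          ⟨hx, hxQ⟩))
      rw [hx1, one_mul] at hxw
      rw [← hxw] at haq
      exact haq hw.2
    have hΩc := h _ hΩtop
    have hPQcomm : ∀ x ∈ (P : Subgroup G), ∀ u ∈ (Q : Subgroup G), x * u = u * x := by
      intro x hx u hu
      have hcop : Nat.Coprime (orderOf x) q := by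
        obtain ⟨k, hk⟩ := (IsPGroup.iff_orderOf.1 P.isPGroup') ⟨x, hx⟩
        have hk' : orderOf x = p ^ k := by rw [← hk]; exact (Subgroup.orderOf_mk x hx).symm
        rw [hk']
        exact Nat.Coprime.pow_left k ((Nat.coprime_primes hp hq).2 hpq)
      obtain ⟨j, hj⟩ := Q.isPGroup' ⟨u, hu⟩
      have hj' : u ^ q ^ j = 1 := congrArg Subtype.val hj
      refine comm_of_comm_omega hQcomm hcop ?_ j u hu hj'
      intro w hw
      exact comm_of_isMulCommutative hΩc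
        ((le_sup_left : (P : Subgroup G) ≤ _) hx)
        ((le_sup_right : omegaSub (Q : Subgroup G) hQcomm q ≤ _) hw)
    apply hna
    rw [isMulCommutative_iff]
    intro g₁ g₂
    have hg₁ : g₁ ∈ (P : Subgroup G) ⊔ Q := hPQ ▸ Subgroup.mem_top g₁
    have hg₂ : g₂ ∈ (P : Subgroup G) ⊔ Q := hPQ ▸ Subgroup.mem_top g₂
    obtain ⟨x₁, hx₁, u₁, hu₁, rfl⟩ := Subgroup.mem_sup_of_normal_right.1 hg₁
    obtain ⟨x₂, hx₂, u₂, hu₂, rfl⟩ := Subgroup.mem_sup_of_normal_right.1 hg₂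
    have e1 : x₁ * x₂ = x₂ * x₁ := comm_of_isMulCommutative hPc' hx₁ hx₂
    have e2 : u₁ * u₂ = u₂ * u₁ := hQcomm u₁ hu₁ u₂ hu₂
    have e3 : x₂ * u₁ = u₁ * x₂ := hPQcomm x₂ hx₂ u₁ hu₁
    have e4 : x₁ * u₂ = u₂ * x₁ := hPQcomm x₁ hx₁ u₂ hu₂
    calc x₁ * u₁ * (x₂ * u₂) = x₁ * (u₁ * x₂) * u₂ := by group
      _ = x₁ * (x₂ * u₁) * u₂ := by rw [e3]
      _ = (x₁ * x₂) * (u₁ * u₂) := by group
      _ = (x₂ * x₁) * (u₂ * u₁) := by rw [e1, e2]
      _ = x₂ * (x₁ * u₂) * u₁ := by group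
      _ = x₂ * (u₂ * x₁) * u₁ := by rw [e4]
      _ = x₂ * u₂ * (x₁ * u₁) := by group

end MillerMorenoMain

end Cfsg.Agent.Lib.Helper97
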