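-- Ring-level Fourier decomposition for a group `Qg` with central commutators acting in a ring,
-- together with an automorphism acting fixed-point-freely modulo the centre.
import Mathlib
import Cfsg.Agent.Lib.Helper97.HHOrbit

set_option autoImplicit false

namespace Cfsg.Agent.Lib.Helper97.HH

open scoped commutatorElement

section
variable {Qg : Type*} [Group Qg]

/-- The permutation of `Qg ⧸ center` induced by an automorphism. -/
noncomputable def quotPerm (α : Qg ≃* Qg) : Equiv.Perm (Qg ⧸ Subgroup.center Qg) :=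
  (QuotientGroup.congr (Subgroup.center Qg) (Subgroup.center Qg) α
    (Subgroup.characteristic_iff_map_eq.mp inferInstance α)).toEquiv

theorem quotPerm_mk (α : Qg ≃* Qg) (g : Qg) :
    quotPerm α (QuotientGroup.mk g) = QuotientGroup.mk (α g) := rfl

theorem quotPerm_pow (α : Qg ≃* Qg) (n : ℕ) (g : Qg) :
    (quotPerm α ^ n) (QuotientGroup.mk g) = QuotientGroup.mk ((α ^ n) g) := by
  induction n generalizing g with
  | zero => simp
  | succ n ih =>
    rw [pow_succ, Equiv.Perm.mul_apply, quotPerm_mk, ih, pow_succ]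
    rfl

theorem quotPerm_pow_eq_one (α : Qg ≃* Qg) {r : ℕ} (hαr : α ^ r = 1) : quotPerm α ^ r = 1 := by
  ext q
  induction q using QuotientGroup.induction_on with
  | _ g =>
    rw [quotPerm_pow, hαr]
    rfl

theorem quotPerm_one (α : Qg ≃* Qg) : quotPerm α (1 : Qg ⧸ Subgroup.center Qg) = 1 := by
  have := quotPerm_mk α (1 : Qg)
  rw [map_one] at this
  exact this

theorem quotPerm_fix (α : Qg ≃* Qg)
    (hαfpf : ∀ g, g⁻¹ * α g ∈ Subgroup.center Qg → g ∈ Subgroup.center Qg)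
    (q : Qg ⧸ Subgroup.center Qg) (hq : quotPerm α q = q) : q = 1 := by
  induction q using QuotientGroup.induction_on with
  | _ g =>
    rw [quotPerm_mk, QuotientGroup.eq] at hq
    have h1 : g⁻¹ * α g ∈ Subgroup.center Qg := by
      have := Subgroup.inv_mem _ hq
      rwa [mul_inv_rev, inv_inv] at this
    exact (QuotientGroup.eq_one_iff g).mpr (hαfpf g h1)

end

section
variable {R₀ Qg : Type*} [Ring R₀] [Finite R₀] [Group Qg] [Finite Qg]

theorem ring_core (ρ : Qg →* R₀) (α : Qg ≃* Qg) (ξ ξ' : R₀) (hξ : ξ * ξ' = 1) (hξ' : ξ' * ξ = 1)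
    (hξρ : ∀ g, ξ * ρ g = ρ (α g) * ξ)
    (hcomm : ∀ g h : Qg, ⁅g, h⁆ ∈ Subgroup.center Qg)
    (hcentral : ∀ z ∈ Subgroup.center Qg, ∀ T : R₀, ρ z * T = T * ρ z)
    (hunit : ∀ z ∈ Subgroup.center Qg, z ≠ 1 → ∀ S : R₀, ρ z * S = S → S = 0)
    (hinv : ∃ m₀ : ℕ, (Nat.card Qg : R₀) * (m₀ : R₀) = 1)
    {r : ℕ} (hr : r.Prime) (hαr : α ^ r = 1)
    (hαfpf : ∀ g, g⁻¹ * α g ∈ Subgroup.center Qg → g ∈ Subgroup.center Qg) :
    Nat.card (Subring.centralizer (Set.range ρ)) ^ Nat.card (Qg ⧸ Subgroup.center Qg) ≤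
        Nat.card R₀ ∧
      Nat.card (Subring.centralizer ({ξ} : Set R₀)) ^ r ≤
        Nat.card (Subring.centralizer (Set.range ρ)) ^
          (Nat.card (Qg ⧸ Subgroup.center Qg) + r - 1) := by
  classical
  have hfQ : Fintype Qg := Fintype.ofFinite Qg
  have hfΩ : Fintype (Qg ⧸ Subgroup.center Qg) := Fintype.ofFinite _
  set 𝔹 : Subring R₀ := Subring.centralizer (Set.range ρ) with h𝔹
  have hB : ∀ b : R₀, b ∈ 𝔹 ↔ ∀ g, ρ g * b = b * ρ g := by
    intro b
    rw [h𝔹, Subring.mem_centralizer_iff]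
    constructor
    · intro h g
      exact h (ρ g) ⟨g, rfl⟩
    · rintro h _ ⟨g, rfl⟩
      exact h g
  have hρinv : ∀ g : Qg, ρ g * ρ g⁻¹ = 1 := fun g => by rw [← map_mul, mul_inv_cancel, map_one]
  have hρinv' : ∀ g : Qg, ρ g⁻¹ * ρ g = 1 := fun g => by rw [← map_mul, inv_mul_cancel, map_one]
  let Φ : R₀ → R₀ := fun Y => ∑ h : Qg, ρ h * Y * ρ h⁻¹
  have hΦconj : ∀ (Y : R₀) (g : Qg), ρ g * Φ Y * ρ g⁻¹ = Φ Y := by
    intro Y g
    change ρ g * (∑ h : Qg, ρ h * Y * ρ h⁻¹) * ρ g⁻¹ = ∑ h : Qg, ρ h * Y * ρ h⁻¹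
    rw [Finset.mul_sum, Finset.sum_mul,
      ← Equiv.sum_comp (Equiv.mulLeft g) (fun h => ρ h * Y * ρ h⁻¹)]
    apply Finset.sum_congr rfl
    intro h _
    simp only [Equiv.coe_mulLeft, mul_inv_rev, map_mul, mul_assoc]
  have hΦB : ∀ Y : R₀, Φ Y ∈ 𝔹 := by
    intro Y
    rw [hB]
    intro g
    calc ρ g * Φ Y = ρ g * Φ Y * (ρ g⁻¹ * ρ g) := by rw [hρinv', mul_one]
      _ = (ρ g * Φ Y * ρ g⁻¹) * ρ g := by simp only [mul_assoc]
      _ = Φ Y * ρ g := by rw [hΦconj]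
  have hΦmulB : ∀ (Y b : R₀), b ∈ 𝔹 → Φ (Y * b) = Φ Y * b := by
    intro Y b hb
    change ∑ h : Qg, ρ h * (Y * b) * ρ h⁻¹ = (∑ h : Qg, ρ h * Y * ρ h⁻¹) * b
    rw [Finset.sum_mul]
    apply Finset.sum_congr rfl
    intro h _
    have h1 := (hB b).mp hb h⁻¹
    calc ρ h * (Y * b) * ρ h⁻¹ = ρ h * Y * (b * ρ h⁻¹) := by simp only [mul_assoc]
      _ = ρ h * Y * (ρ h⁻¹ * b) := by rw [h1]
      _ = ρ h * Y * ρ h⁻¹ * b := by simp only [mul_assoc]
  have hΦmulZ : ∀ (z : Qg), z ∈ Subgroup.center Qg → ∀ Y : R₀, Φ (ρ z * Y) = ρ z * Φ Y := by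
    intro z hz Y
    change ∑ h : Qg, ρ h * (ρ z * Y) * ρ h⁻¹ = ρ z * ∑ h : Qg, ρ h * Y * ρ h⁻¹
    rw [Finset.mul_sum]
    apply Finset.sum_congr rfl
    intro h _
    have h1 := hcentral z hz (ρ h)
    calc ρ h * (ρ z * Y) * ρ h⁻¹ = (ρ h * ρ z) * Y * ρ h⁻¹ := by simp only [mul_assoc]
      _ = (ρ z * ρ h) * Y * ρ h⁻¹ := by rw [h1]
      _ = ρ z * (ρ h * Y * ρ h⁻¹) := by simp only [mul_assoc]
  have hΦone : Φ 1 = (Nat.card Qg : R₀) := by
    change ∑ h : Qg, ρ h * 1 * ρ h⁻¹ = _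
    simp only [mul_one, hρinv]
    simp [Nat.card_eq_fintype_card]
  have hΦnc : ∀ g : Qg, g ∉ Subgroup.center Qg → Φ (ρ g) = 0 := by
    intro g hg
    have hex : ∃ h₀ : Qg, h₀ * g ≠ g * h₀ := by
      by_contra hcon
      push Not at hcon
      exact hg (Subgroup.mem_center_iff.mpr (fun h => hcon h))
    obtain ⟨h₀, hh₀⟩ := hex
    have hz'Z : ⁅h₀, g⁆ ∈ Subgroup.center Qg := hcomm h₀ g
    have hz'1 : ⁅h₀, g⁆ ≠ 1 := fun h => hh₀ (commutatorElement_eq_one_iff_mul_comm.mp h)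
    apply hunit ⁅h₀, g⁆ hz'Z hz'1
    change ρ ⁅h₀, g⁆ * ∑ h : Qg, ρ h * ρ g * ρ h⁻¹ = ∑ h : Qg, ρ h * ρ g * ρ h⁻¹
    rw [Finset.mul_sum, ← Equiv.sum_comp (Equiv.mulRight h₀) (fun h => ρ h * ρ g * ρ h⁻¹)]
    apply Finset.sum_congr rfl
    intro h _
    simp only [Equiv.coe_mulRight, ← map_mul]
    congr 1
    have hc : h * ⁅h₀, g⁆ = ⁅h₀, g⁆ * h := Subgroup.mem_center_iff.mp hz'Z h
    calc ⁅h₀, g⁆ * (h * g * h⁻¹) = (⁅h₀, g⁆ * h) * g * h⁻¹ := by group
      _ = h * ⁅h₀, g⁆ * g * h⁻¹ := by rw [hc]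
      _ = h * h₀ * g * (h * h₀)⁻¹ := by rw [commutatorElement_def]; group
  have hΦc : ∀ z : Qg, z ∈ Subgroup.center Qg → Φ (ρ z) = (Nat.card Qg : R₀) * ρ z := by
    intro z hz
    have h1 := hΦmulZ z hz 1
    rw [mul_one, hΦone] at h1
    rw [h1]
    exact (Nat.cast_comm _ _).symm
  let t : Qg ⧸ Subgroup.center Qg → Qg := fun q => Quotient.out q
  have ht : ∀ q, (QuotientGroup.mk (t q) : Qg ⧸ Subgroup.center Qg) = q :=
    fun q => QuotientGroup.out_eq' q
  obtain ⟨m₀, hm₀⟩ := hinv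
  have hm₀' : (m₀ : R₀) * (Nat.card Qg : R₀) = 1 := by
    rw [← hm₀]
    exact Nat.cast_comm _ _
  have hcancel : ∀ a b : R₀, (Nat.card Qg : R₀) * a = (Nat.card Qg : R₀) * b → a = b := by
    intro a b hab
    calc a = (m₀ : R₀) * ((Nat.card Qg : R₀) * a) := by rw [← mul_assoc, hm₀', one_mul]
      _ = (m₀ : R₀) * ((Nat.card Qg : R₀) * b) := by rw [hab]
      _ = b := by rw [← mul_assoc, hm₀', one_mul]
  refine ⟨?_, ?_⟩
  · -- the coset representatives are independent over the commutant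
    let Λ : ((Qg ⧸ Subgroup.center Qg) → 𝔹) → R₀ := fun b => ∑ q, ρ (t q) * (b q).1
    have hΛinj : Function.Injective Λ := by
      intro b b' hbb
      funext q₀
      have key : ∀ c : (Qg ⧸ Subgroup.center Qg) → 𝔹,
          Φ (ρ (t q₀)⁻¹ * Λ c) = (Nat.card Qg : R₀) * (c q₀).1 := by
        intro c
        change Φ (ρ (t q₀)⁻¹ * ∑ q, ρ (t q) * (c q).1) = _
        rw [Finset.mul_sum]
        have hΦsum : ∀ (f : (Qg ⧸ Subgroup.center Qg) → R₀), Φ (∑ q, f q) = ∑ q, Φ (f q) := by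
          intro f
          change ∑ h : Qg, ρ h * (∑ q, f q) * ρ h⁻¹ = ∑ q, ∑ h : Qg, ρ h * f q * ρ h⁻¹
          rw [Finset.sum_comm]
          apply Finset.sum_congr rfl
          intro h _
          rw [Finset.mul_sum, Finset.sum_mul]
        rw [hΦsum, Finset.sum_eq_single q₀]
        · rw [← mul_assoc, ← map_mul, inv_mul_cancel, map_one, one_mul]
          have h1 := hΦmulB 1 (c q₀).1 (c q₀).2
          rw [one_mul, hΦone] at h1
          exact h1
        · intro q _ hq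
          rw [← mul_assoc, ← map_mul, hΦmulB _ _ (c q).2, hΦnc, zero_mul]
          intro hmem
          apply hq
          rw [← ht q, ← ht q₀]
          exact (QuotientGroup.eq.mpr hmem).symm
        · intro h
          exact absurd (Finset.mem_univ _) h
      have h3 : (Nat.card Qg : R₀) * (b q₀).1 = (Nat.card Qg : R₀) * (b' q₀).1 := by
        rw [← key b, ← key b', hbb]
      exact Subtype.ext (hcancel _ _ h3)
    have h1 := Nat.card_le_card_of_injective Λ hΛinj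
    rw [Nat.card_fun] at h1
    exact h1
  · -- elements commuting with `ξ` have equivariant coefficients
    set σ := quotPerm α with hσ
    have hσr : σ ^ r = 1 := quotPerm_pow_eq_one α hαr
    have hσ1 : σ (1 : Qg ⧸ Subgroup.center Qg) = 1 := quotPerm_one α
    have hσfix : ∀ q, σ q = q → q = 1 := quotPerm_fix α hαfpf
    have hρα : ∀ g, ρ (α g) = ξ * ρ g * ξ' := by
      intro g
      rw [hξρ, mul_assoc, hξ, mul_one]
    have hΦξ : ∀ Y : R₀, Φ (ξ * Y * ξ') = ξ * Φ Y * ξ' := by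
      intro Y
      change ∑ h : Qg, ρ h * (ξ * Y * ξ') * ρ h⁻¹ = ξ * (∑ h : Qg, ρ h * Y * ρ h⁻¹) * ξ'
      rw [Finset.mul_sum, Finset.sum_mul,
        ← Equiv.sum_comp α.toEquiv (fun h => ρ h * (ξ * Y * ξ') * ρ h⁻¹)]
      apply Finset.sum_congr rfl
      intro h _
      change ρ (α h) * (ξ * Y * ξ') * ρ (α h)⁻¹ = ξ * (ρ h * Y * ρ h⁻¹) * ξ'
      rw [← map_inv α, hρα, hρα]
      calc ξ * ρ h * ξ' * (ξ * Y * ξ') * (ξ * ρ h⁻¹ * ξ')
          = ξ * ρ h * (ξ' * ξ) * Y * (ξ' * ξ) * ρ h⁻¹ * ξ' := by simp only [mul_assoc]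
        _ = ξ * (ρ h * Y * ρ h⁻¹) * ξ' := by
          rw [hξ']
          simp only [mul_one, mul_assoc]
    have hCmem : ∀ T : R₀, T ∈ Subring.centralizer ({ξ} : Set R₀) ↔ ξ * T = T * ξ := by
      intro T
      rw [Subring.mem_centralizer_iff]
      constructor
      · intro h
        exact h ξ rfl
      · rintro h _ rfl
        exact h
    let zq : (Qg ⧸ Subgroup.center Qg) → Qg := fun q => (α (t q))⁻¹ * t (σ q)
    have hzq : ∀ q, zq q ∈ Subgroup.center Qg := by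
      intro q
      have h1 : (QuotientGroup.mk (α (t q)) : Qg ⧸ Subgroup.center Qg) =
          QuotientGroup.mk (t (σ q)) := by
        rw [ht, ← quotPerm_mk, ht]
      exact QuotientGroup.eq.mp h1
    have hzq' : ∀ q, t (σ q) = α (t q) * zq q := by
      intro q
      change _ = α (t q) * ((α (t q))⁻¹ * t (σ q))
      rw [mul_inv_cancel_left]
    let τ : (Qg ⧸ Subgroup.center Qg) → 𝔹 → 𝔹 := fun q b =>
      if h : ρ (zq q)⁻¹ * (ξ * b.1 * ξ') ∈ 𝔹 then ⟨_, h⟩ else 0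
    let β : Subring.centralizer ({ξ} : Set R₀) →
        {b : (Qg ⧸ Subgroup.center Qg) → 𝔹 // ∀ q, b (σ q) = τ q (b q)} :=
      fun T => ⟨fun q => ⟨Φ (ρ (t q)⁻¹ * T.1), hΦB _⟩, by
        intro q
        have hT : ξ * T.1 = T.1 * ξ := (hCmem T.1).mp T.2
        have hT' : ξ' * T.1 = T.1 * ξ' := by
          calc ξ' * T.1 = ξ' * T.1 * (ξ * ξ') := by rw [hξ, mul_one]
            _ = ξ' * (T.1 * ξ) * ξ' := by simp only [mul_assoc]
            _ = ξ' * (ξ * T.1) * ξ' := by rw [hT]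
            _ = T.1 * ξ' := by rw [← mul_assoc, hξ', one_mul]
        have hval : Φ (ρ (t (σ q))⁻¹ * T.1) =
            ρ (zq q)⁻¹ * (ξ * Φ (ρ (t q)⁻¹ * T.1) * ξ') := by
          rw [hzq' q, mul_inv_rev, map_mul, mul_assoc, hΦmulZ _ (Subgroup.inv_mem _ (hzq q))]
          congr 1
          rw [← map_inv α, hρα, ← hΦξ]
          congr 1
          calc ξ * ρ (t q)⁻¹ * ξ' * T.1 = ξ * ρ (t q)⁻¹ * (ξ' * T.1) := by
                simp only [mul_assoc]
            _ = ξ * ρ (t q)⁻¹ * (T.1 * ξ') := by rw [hT']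
            _ = ξ * (ρ (t q)⁻¹ * T.1) * ξ' := by simp only [mul_assoc]
        apply Subtype.ext
        change Φ (ρ (t (σ q))⁻¹ * T.1) = (τ q ⟨Φ (ρ (t q)⁻¹ * T.1), hΦB _⟩).1
        simp only [τ]
        rw [dif_pos (by rw [← hval]; exact hΦB _)]
        exact hval⟩
    have hβ : ∀ (T : Subring.centralizer ({ξ} : Set R₀)) q,
        (((β T).1 q : 𝔹) : R₀) = Φ (ρ (t q)⁻¹ * T.1) := fun _ _ => rfl
    have hinvf : ∀ S : R₀,
        ∑ g : Qg, ρ (t (QuotientGroup.mk g)) * Φ (ρ (t (QuotientGroup.mk g))⁻¹ * S) =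
          (Nat.card (Subgroup.center Qg) : R₀) * ((Nat.card Qg : R₀) * S) := by
      intro S
      have hstep1 : ∀ g : Qg,
          ρ (t (QuotientGroup.mk g)) * Φ (ρ (t (QuotientGroup.mk g))⁻¹ * S) =
            ρ g * Φ (ρ g⁻¹ * S) := by
        intro g
        obtain ⟨w, hw, heq⟩ : ∃ w ∈ Subgroup.center Qg, t (QuotientGroup.mk g) = g * w := by
          refine ⟨g⁻¹ * t (QuotientGroup.mk g), ?_, by rw [mul_inv_cancel_left]⟩
          apply QuotientGroup.eq.mp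
          rw [ht]
        rw [heq, mul_inv_rev, map_mul, map_mul, mul_assoc (ρ w⁻¹),
          hΦmulZ _ (Subgroup.inv_mem _ hw), mul_assoc (ρ g), ← mul_assoc (ρ w), hρinv, one_mul]
      rw [Finset.sum_congr rfl (fun g _ => hstep1 g)]
      have hstep2 : ∑ g : Qg, ρ g * Φ (ρ g⁻¹ * S) = ∑ h : Qg, Φ (ρ h) * S * ρ h⁻¹ := by
        change ∑ g : Qg, ρ g * (∑ h : Qg, ρ h * (ρ g⁻¹ * S) * ρ h⁻¹) =
          ∑ h : Qg, (∑ g : Qg, ρ g * ρ h * ρ g⁻¹) * S * ρ h⁻¹
        simp only [Finset.mul_sum, Finset.sum_mul]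
        rw [Finset.sum_comm]
        apply Finset.sum_congr rfl
        intro h _
        apply Finset.sum_congr rfl
        intro g _
        simp only [mul_assoc]
      rw [hstep2]
      have hstep3 : ∀ h : Qg, Φ (ρ h) * S * ρ h⁻¹ =
          if h ∈ Subgroup.center Qg then (Nat.card Qg : R₀) * S else 0 := by
        intro h
        by_cases hh : h ∈ Subgroup.center Qg
        · rw [if_pos hh, hΦc h hh, mul_assoc, mul_assoc, ← mul_assoc (ρ h), hcentral h hh S,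
            mul_assoc, hρinv, mul_one]
        · rw [if_neg hh, hΦnc h hh, zero_mul, zero_mul]
      rw [Finset.sum_congr rfl (fun h _ => hstep3 h), Finset.sum_ite, Finset.sum_const_zero,
        add_zero, Finset.sum_const, nsmul_eq_mul]
      congr 2
      rw [Nat.card_eq_fintype_card, Fintype.card_subtype]
    have hm₁ : ((Nat.card (Qg ⧸ Subgroup.center Qg) * m₀ : ℕ) : R₀) *
        (Nat.card (Subgroup.center Qg) : R₀) = 1 := by
      have h1 := Subgroup.card_eq_card_quotient_mul_card_subgroup (Subgroup.center Qg)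
      rw [← Nat.cast_mul]
      have h2 : Nat.card (Qg ⧸ Subgroup.center Qg) * m₀ * Nat.card (Subgroup.center Qg) =
          m₀ * Nat.card Qg := by
        rw [h1]
        ring
      rw [h2, Nat.cast_mul, hm₀']
    have hβinj : Function.Injective β := by
      intro T T' hTT
      have hcoef : ∀ q, Φ (ρ (t q)⁻¹ * T.1) = Φ (ρ (t q)⁻¹ * T'.1) := by
        intro q
        rw [← hβ T q, ← hβ T' q, hTT]
      have h1 := hinvf T.1
      have h2 := hinvf T'.1
      rw [Finset.sum_congr rfl (fun g _ => by rw [hcoef])] at h1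
      rw [h2] at h1
      have h3 : (Nat.card Qg : R₀) * T'.1 = (Nat.card Qg : R₀) * T.1 := by
        calc (Nat.card Qg : R₀) * T'.1
            = ((Nat.card (Qg ⧸ Subgroup.center Qg) * m₀ : ℕ) : R₀) *
                ((Nat.card (Subgroup.center Qg) : R₀) * ((Nat.card Qg : R₀) * T'.1)) := by
              rw [← mul_assoc, hm₁, one_mul]
          _ = ((Nat.card (Qg ⧸ Subgroup.center Qg) * m₀ : ℕ) : R₀) *
                ((Nat.card (Subgroup.center Qg) : R₀) * ((Nat.card Qg : R₀) * T.1)) := by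
              rw [h1]
          _ = (Nat.card Qg : R₀) * T.1 := by rw [← mul_assoc, hm₁, one_mul]
      exact Subtype.ext (hcancel _ _ h3).symm
    have h1 := Nat.card_le_card_of_injective β hβinj
    have h2 := equivariant_count σ hr hσr 1 hσ1 hσfix τ
    exact (Nat.pow_le_pow_left h1 r).trans h2

end

end Cfsg.Agent.Lib.Helper97.HH
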