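-- The Hall-Higman type bound: a group `Qg` with centre of prime order containing all commutators,
-- an automorphism of prime order `r` fixed-point-free modulo the centre, acting on a module in
-- coprime characteristic without fixed points of the automorphism: `|Qg / Z| ≤ (r - 1)^2`.
import Mathlib
import Cfsg.Agent.Lib.Helper97.HHRing
import Cfsg.Agent.Lib.Helper97.HHCent

set_option autoImplicit false

namespace Cfsg.Agent.Lib.Helper97.HH

open Polynomial
open scoped commutatorElement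

theorem field_core {K M Qg : Type*} [Field K] [Finite K] [AddCommGroup M] [Finite M]
    [Nontrivial M] [Group Qg] [Finite Qg]
    (φ : K →+* AddMonoid.End M) (ρ : Qg →* AddMonoid.End M) (α : Qg ≃* Qg)
    (ξ ξ' : AddMonoid.End M)
    (hξ : ξ * ξ' = 1) (hξ' : ξ' * ξ = 1) (hξρ : ∀ g, ξ * ρ g = ρ (α g) * ξ)
    (hφρ : ∀ k g, φ k * ρ g = ρ g * φ k) (hφξ : ∀ k, φ k * ξ = ξ * φ k)
    (hscal : ∀ z ∈ Subgroup.center Qg, ∃ k, ρ z = φ k)
    {p r : ℕ} (hp : p.Prime) (hr : r.Prime) (hpr : p ≠ r)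
    (hQcop : ¬ p ∣ Nat.card Qg)
    (hcomm : ∀ g h : Qg, ⁅g, h⁆ ∈ Subgroup.center Qg)
    (hαr : α ^ r = 1)
    (hαfpf : ∀ g, g⁻¹ * α g ∈ Subgroup.center Qg → g ∈ Subgroup.center Qg)
    (hξr : ξ ^ r = 1)
    (hexp : ∀ m : M, p • m = 0)
    (hfixZ : ∀ z ∈ Subgroup.center Qg, z ≠ 1 → ∀ m : M, ρ z m = m → m = 0)
    (hfixX : ∀ m : M, ξ m = m → m = 0) :
    Nat.card (Qg ⧸ Subgroup.center Qg) ≤ (r - 1) ^ 2 := by
  classical
  letI mod : Module K M := Module.compHom M φ
  have hsmul : ∀ (k : K) (m : M), k • m = φ k m := fun _ _ => rfl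
  have hfinMod : Module.Finite K M := Module.Finite.of_finite
  have hfinE : Finite (Module.End K M) :=
    Finite.of_injective (fun f : Module.End K M => (f : M → M)) DFunLike.coe_injective
  have hφξ' : ∀ k, φ k * ξ' = ξ' * φ k := by
    intro k
    calc φ k * ξ' = (ξ' * ξ) * φ k * ξ' := by rw [hξ', one_mul]
      _ = ξ' * (ξ * φ k) * ξ' := by simp only [mul_assoc]
      _ = ξ' * (φ k * ξ) * ξ' := by rw [hφξ]
      _ = ξ' * φ k := by rw [mul_assoc, mul_assoc, hξ, mul_one]
  let lin : (T : AddMonoid.End M) → (∀ k, φ k * T = T * φ k) → Module.End K M := fun T hT =>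
    { toFun := T
      map_add' := fun a b => map_add T a b
      map_smul' := fun k m => by
        rw [RingHom.id_apply, hsmul, hsmul]
        change (T * φ k) m = (φ k * T) m
        rw [hT] }
  have hlin : ∀ T hT m, lin T hT m = T m := fun _ _ _ => rfl
  let ρL : Qg →* Module.End K M :=
    { toFun := fun g => lin (ρ g) (fun k => hφρ k g)
      map_one' := LinearMap.ext (fun m => by
        change ρ 1 m = m
        rw [map_one]
        rfl)
      map_mul' := fun a b => LinearMap.ext (fun m => by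
        change ρ (a * b) m = ρ a (ρ b m)
        rw [map_mul]
        rfl) }
  have hρL : ∀ g m, ρL g m = ρ g m := fun _ _ => rfl
  let ξL : Module.End K M := lin ξ hφξ
  let ξL' : Module.End K M := lin ξ' hφξ'
  have hpR : (p : Module.End K M) = 0 := by
    apply LinearMap.ext
    intro m
    rw [Module.End.natCast_apply]
    exact hexp m
  have hcopn : Nat.Coprime (Nat.card Qg) p :=
    ((Nat.Prime.coprime_iff_not_dvd hp).mpr hQcop).symm
  obtain ⟨m₀, -, hm₀⟩ := Nat.exists_mul_mod_eq_one_of_coprime hcopn hp.one_lt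
  have hm₀R : (Nat.card Qg : Module.End K M) * (m₀ : Module.End K M) = 1 := by
    have h6 : Nat.card Qg * m₀ = p * (Nat.card Qg * m₀ / p) + 1 := by
      have := Nat.div_add_mod (Nat.card Qg * m₀) p
      rw [hm₀] at this
      exact this.symm
    have h7 : ((Nat.card Qg * m₀ : ℕ) : Module.End K M) = 1 := by
      rw [h6]
      push_cast
      rw [hpR, zero_mul, zero_add]
    rw [← Nat.cast_mul, h7]
  obtain ⟨hF1, hF2⟩ := ring_core ρL α ξL ξL'
    (LinearMap.ext (fun m => by
      change (ξ * ξ') m = m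
      rw [hξ]
      rfl))
    (LinearMap.ext (fun m => by
      change (ξ' * ξ) m = m
      rw [hξ']
      rfl))
    (fun g => LinearMap.ext (fun m => by
      change (ξ * ρ g) m = (ρ (α g) * ξ) m
      rw [hξρ]))
    hcomm
    (fun z hz T => LinearMap.ext (fun m => by
      obtain ⟨k, hk⟩ := hscal z hz
      change ρ z (T m) = T (ρ z m)
      rw [hk, ← hsmul, ← hsmul, T.map_smul]))
    (fun z hz hz1 S hS => LinearMap.ext (fun m => by
      apply hfixZ z hz hz1
      have := congrArg (fun T : Module.End K M => T m) hS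
      exact this))
    ⟨m₀, hm₀R⟩ hr hαr hαfpf
  -- the characteristic
  have hpK : (p : K) = 0 := by
    by_contra hne
    obtain ⟨m, hm⟩ := exists_ne (0 : M)
    apply hm
    have h1 : (p : K) • m = 0 := by
      rw [Nat.cast_smul_eq_nsmul]
      exact hexp m
    exact (smul_eq_zero.mp h1).resolve_left hne
  have hrK : (r : K) ≠ 0 := by
    intro h0
    have hcop' : Nat.Coprime r p := (Nat.coprime_primes hr hp).mpr (Ne.symm hpr)
    obtain ⟨a, -, ha⟩ := Nat.exists_mul_mod_eq_one_of_coprime hcop' hp.one_lt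
    have h6 : r * a = p * (r * a / p) + 1 := by
      have := Nat.div_add_mod (r * a) p
      rw [ha] at this
      exact this.symm
    have h7 := congrArg (fun n : ℕ => (n : K)) h6
    simp only [Nat.cast_mul, Nat.cast_add, Nat.cast_one, h0, hpK, zero_mul, zero_add] at h7
    exact zero_ne_one h7
  -- the polynomial `1 + X + ... + X^(r-1)`
  set g : K[X] := ∑ i ∈ Finset.range r, (X : K[X]) ^ i with hg
  have hgdvd : g ∣ X ^ r - 1 := ⟨X - 1, by rw [mul_comm]; exact (mul_geom_sum X r).symm⟩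
  have hsq : Squarefree g := by
    have h1 : (X ^ r - C (1 : K)).Separable := separable_X_pow_sub_C (1 : K) hrK one_ne_zero
    rw [map_one] at h1
    exact Squarefree.squarefree_of_dvd hgdvd h1.squarefree
  have hgdeg : g.natDegree ≤ r - 1 := by
    apply Polynomial.natDegree_sum_le_of_forall_le
    intro i hi
    rw [natDegree_X_pow]
    have := Finset.mem_range.mp hi
    omega
  have hpowL : ∀ (n : ℕ) (m : M), (ξL ^ n) m = (ξ ^ n) m := by
    intro n
    induction n with
    | zero =>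
      intro m
      rfl
    | succ n ih =>
      intro m
      rw [pow_succ, pow_succ, Module.End.mul_apply, ih]
      rfl
  have hξLr : ξL ^ r = 1 := LinearMap.ext (fun m => by
    rw [hpowL, hξr]
    rfl)
  have haeval : aeval ξL g = 0 := by
    have h1 : aeval ξL g = ∑ i ∈ Finset.range r, ξL ^ i := by
      rw [hg, map_sum]
      apply Finset.sum_congr rfl
      intro i _
      rw [map_pow, aeval_X]
    rw [h1]
    have h2 : ξL * ∑ i ∈ Finset.range r, ξL ^ i = ∑ i ∈ Finset.range r, ξL ^ i := by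
      have := mul_geom_sum ξL r
      rw [hξLr, sub_self, sub_mul, one_mul, sub_eq_zero] at this
      exact this
    apply LinearMap.ext
    intro m
    apply hfixX
    have := congrArg (fun T : Module.End K M => T m) h2
    exact this
  obtain ⟨N, c, hMN, hcC, hNc⟩ := centralizer_bound ξL g hsq haeval
  have hK2 : 1 < Nat.card K := Finite.one_lt_card
  have hN : N = Module.finrank K M := by
    have h1 : Nat.card M = Nat.card K ^ Module.finrank K M :=
      Module.natCard_eq_pow_finrank (K := K) (V := M)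
    rw [hMN] at h1
    exact Nat.pow_right_injective hK2 h1
  have hR₀ : Nat.card (Module.End K M) = Nat.card K ^ (N * N) := by
    rw [hN, Module.natCard_eq_pow_finrank (K := K) (V := M →ₗ[K] M), Module.finrank_linearMap]
  have hCle : Nat.card {T : Module.End K M // T * ξL = ξL * T} ≤
      Nat.card (Subring.centralizer ({ξL} : Set (Module.End K M))) := by
    apply Nat.card_le_card_of_injective (fun T => (⟨T.1, by
      rw [Subring.mem_centralizer_iff]
      rintro _ rfl
      exact T.2.symm⟩ : Subring.centralizer ({ξL} : Set (Module.End K M))))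
    intro T T' h
    have h' : T.1 = T'.1 :=
      congrArg (fun S : Subring.centralizer ({ξL} : Set (Module.End K M)) => S.1) h
    exact Subtype.ext h'
  have hntE : Nontrivial (Module.End K M) := by
    refine ⟨⟨0, 1, ?_⟩⟩
    intro h01
    obtain ⟨m, hm⟩ := exists_ne (0 : M)
    apply hm
    have := congrArg (fun T : Module.End K M => T m) h01
    exact this.symm
  have ha2 : 1 < Nat.card (Subring.centralizer (Set.range ρL)) := Finite.one_lt_card
  rw [hR₀] at hF1
  have hchain : Nat.card (Subring.centralizer (Set.range ρL)) ^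
        (Nat.card (Qg ⧸ Subgroup.center Qg) * r) ≤
      Nat.card (Subring.centralizer (Set.range ρL)) ^
        ((Nat.card (Qg ⧸ Subgroup.center Qg) + r - 1) * (r - 1)) := by
    calc Nat.card (Subring.centralizer (Set.range ρL)) ^ (Nat.card (Qg ⧸ Subgroup.center Qg) * r)
        = (Nat.card (Subring.centralizer (Set.range ρL)) ^
            Nat.card (Qg ⧸ Subgroup.center Qg)) ^ r := by rw [pow_mul]
      _ ≤ (Nat.card K ^ (N * N)) ^ r := Nat.pow_le_pow_left hF1 r
      _ ≤ (Nat.card K ^ ((r - 1) * c)) ^ r :=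
          Nat.pow_le_pow_left (Nat.pow_le_pow_right (by omega)
            (hNc.trans (Nat.mul_le_mul_right c hgdeg))) r
      _ = (Nat.card K ^ c) ^ (r * (r - 1)) := by
          rw [← pow_mul, ← pow_mul]
          congr 1
          ring
      _ ≤ (Nat.card (Subring.centralizer ({ξL} : Set (Module.End K M)))) ^ (r * (r - 1)) :=
          Nat.pow_le_pow_left (hcC.trans hCle) _
      _ = ((Nat.card (Subring.centralizer ({ξL} : Set (Module.End K M)))) ^ r) ^ (r - 1) := by
          rw [pow_mul]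
      _ ≤ (Nat.card (Subring.centralizer (Set.range ρL)) ^
            (Nat.card (Qg ⧸ Subgroup.center Qg) + r - 1)) ^ (r - 1) :=
          Nat.pow_le_pow_left hF2 _
      _ = Nat.card (Subring.centralizer (Set.range ρL)) ^
            ((Nat.card (Qg ⧸ Subgroup.center Qg) + r - 1) * (r - 1)) := by rw [← pow_mul]
  have h1 : Nat.card (Qg ⧸ Subgroup.center Qg) * r ≤
      (Nat.card (Qg ⧸ Subgroup.center Qg) + r - 1) * (r - 1) :=
    (Nat.pow_le_pow_iff_right ha2).mp hchain
  have hr1 : 1 ≤ r := hr.pos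
  generalize Nat.card (Qg ⧸ Subgroup.center Qg) = ω at h1 ⊢
  obtain ⟨s, hs⟩ : ∃ s, r = s + 1 := ⟨r - 1, by omega⟩
  rw [hs] at h1 ⊢
  have h2 : ω + (s + 1) - 1 = ω + s := by omega
  rw [h2, Nat.add_sub_cancel] at h1
  rw [Nat.add_sub_cancel]
  nlinarith

theorem hh_core {M Qg : Type*} [AddCommGroup M] [Finite M] [Nontrivial M] [Group Qg]
    [Finite Qg]
    (ρ : Qg →* AddMonoid.End M) (α : Qg ≃* Qg) (ξ ξ' : AddMonoid.End M)
    (hξ : ξ * ξ' = 1) (hξ' : ξ' * ξ = 1) (hξρ : ∀ g, ξ * ρ g = ρ (α g) * ξ)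
    {p q r : ℕ} (hp : p.Prime) (hq : q.Prime) (hr : r.Prime) (hpr : p ≠ r)
    (hQcop : ¬ p ∣ Nat.card Qg)
    (hZcard : Nat.card (Subgroup.center Qg) = q)
    (hcomm : ∀ g h : Qg, ⁅g, h⁆ ∈ Subgroup.center Qg)
    (hαr : α ^ r = 1)
    (hαfpf : ∀ g, g⁻¹ * α g ∈ Subgroup.center Qg → g ∈ Subgroup.center Qg)
    (hαZ : ∀ z ∈ Subgroup.center Qg, α z = z)
    (hξr : ξ ^ r = 1)
    (hexp : ∀ m : M, p • m = 0)
    (hfixZ : ∀ z ∈ Subgroup.center Qg, z ≠ 1 → ∀ m : M, ρ z m = m → m = 0)
    (hfixX : ∀ m : M, ξ m = m → m = 0)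
    (hirr : ∀ W : AddSubgroup M, (∀ g, ∀ x ∈ W, ρ g x ∈ W) → (∀ x ∈ W, ξ x ∈ W) →
      W = ⊥ ∨ W = ⊤) :
    Nat.card (Qg ⧸ Subgroup.center Qg) ≤ (r - 1) ^ 2 := by
  classical
  have hfq : Fact q.Prime := ⟨hq⟩
  have hfR : Finite (AddMonoid.End M) :=
    Finite.of_injective (fun f : AddMonoid.End M => (f : M → M)) DFunLike.coe_injective
  obtain ⟨z₀, hz₀Z, hz₀1⟩ : ∃ z₀ ∈ Subgroup.center Qg, z₀ ≠ 1 := by
    have h1 : 1 < Nat.card (Subgroup.center Qg) := by rw [hZcard]; exact hq.one_lt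
    have : Nontrivial (Subgroup.center Qg) := Finite.one_lt_card_iff_nontrivial.mp h1
    obtain ⟨x, hx⟩ := exists_ne (1 : Subgroup.center Qg)
    exact ⟨x.1, x.2, fun h => hx (Subtype.ext h)⟩
  have hζρ : ∀ g, ρ g * ρ z₀ = ρ z₀ * ρ g := by
    intro g
    rw [← map_mul, ← map_mul]
    congr 1
    exact Subgroup.mem_center_iff.mp hz₀Z g
  have hζξ : ξ * ρ z₀ = ρ z₀ * ξ := by rw [hξρ, hαZ z₀ hz₀Z]
  set 𝔽 : Subring (AddMonoid.End M) := Subring.closure {ρ z₀} with h𝔽
  letI cr : CommRing 𝔽 := Subring.closureCommRingOfComm (by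
    rintro a ha b hb
    rw [Set.mem_singleton_iff.mp ha, Set.mem_singleton_iff.mp hb])
  have h𝔽comm : ∀ (a : AddMonoid.End M), a ∈ 𝔽 → (∀ g, ρ g * a = a * ρ g) ∧ ξ * a = a * ξ := by
    intro a ha
    have hle : 𝔽 ≤ Subring.centralizer (Set.range ρ ∪ {ξ}) := by
      rw [h𝔽, Subring.closure_le]
      rintro _ rfl
      rw [SetLike.mem_coe, Subring.mem_centralizer_iff]
      rintro _ (⟨g, rfl⟩ | rfl)
      · exact hζρ g
      · exact hζξ
    have h1 := Subring.mem_centralizer_iff.mp (hle ha)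
    exact ⟨fun g => h1 (ρ g) (Or.inl ⟨g, rfl⟩), h1 ξ (Or.inr rfl)⟩
  have hnzd : NoZeroDivisors 𝔽 := by
    refine ⟨?_⟩
    intro a b hab
    have hab' : a.1 * b.1 = 0 := congrArg Subtype.val hab
    let K₀ : AddSubgroup M :=
      { carrier := {x | a.1 x = 0}
        add_mem' := fun {u v} hu hv => by
          change a.1 (u + v) = 0
          rw [map_add, hu, hv, add_zero]
        zero_mem' := map_zero _
        neg_mem' := fun {u} hu => by
          change a.1 (-u) = 0
          rw [map_neg, hu, neg_zero] }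
    rcases hirr K₀ (by
      intro g x hx
      have hx' : a.1 x = 0 := hx
      change a.1 (ρ g x) = 0
      have h6 : a.1 (ρ g x) = (a.1 * ρ g) x := rfl
      rw [h6, ← (h𝔽comm a.1 a.2).1 g]
      change ρ g (a.1 x) = 0
      rw [hx', map_zero]) (by
      intro x hx
      have hx' : a.1 x = 0 := hx
      change a.1 (ξ x) = 0
      have h6 : a.1 (ξ x) = (a.1 * ξ) x := rfl
      rw [h6, ← (h𝔽comm a.1 a.2).2]
      change ξ (a.1 x) = 0
      rw [hx', map_zero]) with hk | hk
    · right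
      apply Subtype.ext
      ext m
      have h6 : b.1 m ∈ K₀ := by
        change (a.1 * b.1) m = 0
        rw [hab']
        rfl
      rw [hk] at h6
      exact AddSubgroup.mem_bot.mp h6
    · left
      apply Subtype.ext
      ext m
      have h6 : m ∈ K₀ := by rw [hk]; trivial
      exact h6
  have hnA : Nontrivial 𝔽 := by
    refine ⟨⟨0, 1, ?_⟩⟩
    intro h01
    obtain ⟨m, hm⟩ := exists_ne (0 : M)
    apply hm
    have h6 : ((0 : 𝔽) : AddMonoid.End M) m = ((1 : 𝔽) : AddMonoid.End M) m := by rw [h01]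
    exact h6.symm
  have hdomF : IsDomain 𝔽 := NoZeroDivisors.to_isDomain 𝔽
  have hfin : Fintype 𝔽 := Fintype.ofFinite 𝔽
  letI fld : Field 𝔽 := Fintype.fieldOfDomain 𝔽
  have hscal : ∀ z ∈ Subgroup.center Qg, ∃ k : 𝔽, ρ z = 𝔽.subtype k := by
    intro z hz
    have h1 : (⟨z, hz⟩ : Subgroup.center Qg) ∈
        Subgroup.zpowers (⟨z₀, hz₀Z⟩ : Subgroup.center Qg) := by
      rw [zpowers_eq_top_of_prime_card hZcard (fun h => hz₀1 (congrArg Subtype.val h))]
      trivial
    obtain ⟨j, hj⟩ := mem_powers_iff_mem_zpowers.mpr h1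
    have hj' : z₀ ^ j = z := congrArg Subtype.val hj
    have hζmem : ρ z₀ ∈ 𝔽 := Subring.subset_closure (Set.mem_singleton _)
    refine ⟨⟨ρ z₀ ^ j, Subring.pow_mem 𝔽 hζmem j⟩, ?_⟩
    rw [← hj', map_pow]
    rfl
  exact field_core (K := 𝔽) 𝔽.subtype ρ α ξ ξ' hξ hξ' hξρ
    (fun k g => ((h𝔽comm k.1 k.2).1 g).symm) (fun k => ((h𝔽comm k.1 k.2).2).symm)
    hscal hp hr hpr hQcop hcomm hαr hαfpf hξr hexp hfixZ hfixX

end Cfsg.Agent.Lib.Helper97.HH
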