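-- Ward's theorem, part 3: the ambient setting. An elementary abelian group `A` of order `p²`
-- mapping into a finite group `X = G·A` with `G` a normal solvable `p'`-subgroup on which `A`
-- has no fixed points. Quotients, lifting of fixed points, nilpotency of the centralizers of
-- the nonidentity elements of `A` (Thompson).
import Mathlib
import Cfsg.Agent.S0022
import Cfsg.Agent.S0033
import Cfsg.Agent.Lib.Helper97.SectMod
import Cfsg.Agent.Lib.Helper97.WardCore

set_option autoImplicit false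

namespace Cfsg.Agent.Lib.Helper97.Ward

/-- The standing hypotheses of Ward's theorem, in an ambient group. -/
structure WS {X A : Type*} [Group X] [Group A] (p : ℕ) (θ : A →* X) (G : Subgroup X) : Prop where
  hp : p.Prime
  hAc : ∀ x y : A, x * y = y * x
  hAp : ∀ x : A, x ^ p = 1
  hAcard : Nat.card A = p ^ 2
  hGn : G.Normal
  hsup : G ⊔ θ.range = ⊤
  hsolv : Group.IsSolvable G
  hpG : ¬ p ∣ Nat.card G
  hfpf : ∀ g ∈ G, (∀ a : A, θ a * g = g * θ a) → g = 1

theorem eq_one_of_pow_coprime' {X : Type*} [Group X] {v : X} {m n : ℕ} (h : m.Coprime n)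
    (hm : v ^ m = 1) (hn : v ^ n = 1) : v = 1 := by
  have h1 : orderOf v ∣ Nat.gcd m n :=
    Nat.dvd_gcd (orderOf_dvd_of_pow_eq_one hm) (orderOf_dvd_of_pow_eq_one hn)
  rw [Nat.Coprime.gcd_eq_one h, Nat.dvd_one] at h1
  exact orderOf_eq_one_iff.mp h1

theorem le_norm {X : Type*} [Group X] {K : Subgroup X} (hK : K.Normal) (T : Subgroup X) :
    T ≤ Subgroup.normalizer (K : Set X) :=
  le_normalizer_of_conj K T (fun x _ d hd => hK.conj_mem d hd x)

theorem comm_mem_iff {X : Type*} [Group X] {K : Subgroup X} [K.Normal] (a g : X) :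
    a * g * a⁻¹ * g⁻¹ ∈ K ↔
      QuotientGroup.mk' K a * QuotientGroup.mk' K g =
        QuotientGroup.mk' K g * QuotientGroup.mk' K a := by
  rw [← QuotientGroup.eq_one_iff, ← QuotientGroup.mk'_apply, map_mul, map_mul, map_mul, map_inv,
    map_inv]
  constructor
  · intro h
    calc QuotientGroup.mk' K a * QuotientGroup.mk' K g
        = (QuotientGroup.mk' K a * QuotientGroup.mk' K g * (QuotientGroup.mk' K a)⁻¹ *
            (QuotientGroup.mk' K g)⁻¹) * (QuotientGroup.mk' K g * QuotientGroup.mk' K a) := by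
          group
      _ = QuotientGroup.mk' K g * QuotientGroup.mk' K a := by rw [h, one_mul]
  · intro h
    rw [h]
    group

/-- The `q`-part of an element, relative to a homomorphism. -/
theorem exists_pow_part {G K : Type*} [Group G] [Group K] [Finite G] (ψ : G →* K) (z : G)
    {q : ℕ} (hq : q.Prime) {j : ℕ} (h : ψ z ^ q ^ j = 1) :
    ∃ m i : ℕ, ψ (z ^ m) = ψ z ∧ (z ^ m) ^ q ^ i = 1 := by
  have hz : orderOf z ≠ 0 := (orderOf_pos z).ne'
  obtain ⟨i, m', hm', hzm⟩ := Nat.exists_eq_pow_mul_and_not_dvd hz q hq.ne_one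
  have hcop : m'.Coprime (q ^ j) :=
    Nat.Coprime.pow_right _ ((Nat.Prime.coprime_iff_not_dvd hq).mpr hm').symm
  rcases Nat.lt_or_ge 1 (q ^ j) with h1 | h1
  · obtain ⟨t, -, ht⟩ := Nat.exists_mul_mod_eq_one_of_coprime hcop h1
    refine ⟨m' * t, i, ?_, ?_⟩
    · rw [map_pow, pow_eq_pow_mod (m' * t) h, ht, pow_one]
    · rw [← pow_mul, mul_comm (m' * t), ← mul_assoc, ← hzm, pow_mul, pow_orderOf_eq_one, one_pow]
  · have h2 : q ^ j = 1 := le_antisymm h1 (Nat.one_le_pow _ _ hq.pos)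
    rw [h2, pow_one] at h
    exact ⟨0, 0, by rw [pow_zero, map_one, h], by simp⟩

theorem card_map_lt {X : Type*} [Group X] [Finite X] (G K : Subgroup X) [K.Normal] (hK : K ≤ G)
    (hK1 : K ≠ ⊥) : Nat.card (G.map (QuotientGroup.mk' K)) < Nat.card G := by
  by_contra hcon
  have hsurj := (QuotientGroup.mk' K).subgroupMap_surjective G
  have hbij := hsurj.bijective_of_nat_card_le (not_lt.mp hcon)
  obtain ⟨k, hk, hk1⟩ : ∃ k ∈ K, k ≠ 1 := by
    by_contra h
    push Not at h
    exact hK1 ((Subgroup.eq_bot_iff_forall K).mpr h)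
  apply hk1
  have h1 : (QuotientGroup.mk' K).subgroupMap G ⟨k, hK hk⟩ = (QuotientGroup.mk' K).subgroupMap G 1 := by
    apply Subtype.ext
    change QuotientGroup.mk' K k = QuotientGroup.mk' K 1
    rw [map_one]
    exact (QuotientGroup.eq_one_iff k).mpr hk
  exact congrArg Subtype.val (hbij.1 h1)

namespace WS
variable {X A : Type*} [Group X] [Group A] {p : ℕ} {θ : A →* X} {G : Subgroup X}

theorem finA (D : WS p θ G) : Finite A :=
  Nat.finite_of_card_ne_zero (by rw [D.hAcard]; exact pow_ne_zero _ D.hp.ne_zero)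

theorem thp (D : WS p θ G) (c : A) : θ c ^ p = 1 := by
  rw [← map_pow, D.hAp, map_one]

theorem pA (D : WS p θ G) : IsPGroup p θ.range := by
  rintro ⟨_, c, rfl⟩
  refine ⟨1, Subtype.ext ?_⟩
  rw [pow_one]
  exact D.thp c

theorem cop [Finite X] (D : WS p θ G) (B : Subgroup X) (hB : IsPGroup p B) :
    (Nat.card B).Coprime (Nat.card G) := by
  have := Fact.mk D.hp
  obtain ⟨k, hk⟩ := IsPGroup.iff_card.mp hB
  rw [hk]
  exact Nat.Coprime.pow_left _ ((Nat.Prime.coprime_iff_not_dvd D.hp).mpr D.hpG)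

/-- Fixed points on a quotient are trivial. -/
theorem lift [Finite X] (D : WS p θ G) {K : Subgroup X} (hKn : K.Normal) (hK : K ≤ G) {g : X}
    (hg : g ∈ G) (h : ∀ a : A, θ a * g * (θ a)⁻¹ * g⁻¹ ∈ K) : g ∈ K := by
  obtain ⟨c, hc, hck⟩ := Cfsg.Agent.S0022.result θ.range G (le_norm D.hGn _)
    (D.cop _ D.pA) (Or.inr D.hsolv) K hK (le_norm hKn _) (le_norm hKn _) g hg
    (by rintro _ ⟨a, rfl⟩; exact h a)
  have hc1 : c = 1 := D.hfpf c hc.1 (fun a =>
    (Subgroup.mem_centralizer_iff.mp hc.2 (θ a) ⟨a, rfl⟩))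
  rw [hc1, mul_one] at hck
  exact (Subgroup.inv_mem_iff K).mp hck

/-- Elements centralized by `θ c` modulo `K` lift to elements centralized by `θ c`. -/
theorem lift1 [Finite X] (D : WS p θ G) {K : Subgroup X} (hKn : K.Normal) (hK : K ≤ G) (c : A)
    {g : X} (hg : g ∈ G) (h : θ c * g * (θ c)⁻¹ * g⁻¹ ∈ K) :
    ∃ d ∈ G, θ c * d = d * θ c ∧ g⁻¹ * d ∈ K := by
  have := hKn
  have hz : IsPGroup p (Subgroup.zpowers (θ c)) := by
    refine D.pA.to_le ?_
    rw [Subgroup.zpowers_le]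
    exact ⟨c, rfl⟩
  have hle : Subgroup.zpowers (θ c) ≤
      (Subgroup.centralizer {QuotientGroup.mk' K g}).comap (QuotientGroup.mk' K) := by
    rw [Subgroup.zpowers_le, Subgroup.mem_comap, Subgroup.mem_centralizer_iff]
    rintro _ rfl
    exact ((comm_mem_iff _ _).mp h).symm
  have hfix : ∀ a ∈ Subgroup.zpowers (θ c), a * g * a⁻¹ * g⁻¹ ∈ K := by
    intro a ha
    have h1 := hle ha
    rw [Subgroup.mem_comap, Subgroup.mem_centralizer_iff] at h1
    exact (comm_mem_iff _ _).mpr (h1 _ rfl).symm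
  obtain ⟨d, hd, hdk⟩ := Cfsg.Agent.S0022.result (Subgroup.zpowers (θ c)) G (le_norm D.hGn _)
    (D.cop _ hz) (Or.inr D.hsolv) K hK (le_norm hKn _) (le_norm hKn _) g hg hfix
  exact ⟨d, hd.1, Subgroup.mem_centralizer_iff.mp hd.2 (θ c) (Subgroup.mem_zpowers _), hdk⟩

/-- The hypotheses pass to quotients. -/
theorem quot [Finite X] (D : WS p θ G) (K : Subgroup X) [K.Normal] (hK : K ≤ G) :
    WS p ((QuotientGroup.mk' K).comp θ) (G.map (QuotientGroup.mk' K)) where
  hp := D.hp
  hAc := D.hAc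
  hAp := D.hAp
  hAcard := D.hAcard
  hGn := D.hGn.map _ (QuotientGroup.mk'_surjective K)
  hsup := by
    rw [← MonoidHom.map_range, ← Subgroup.map_sup, D.hsup]
    exact Subgroup.map_top_of_surjective _ (QuotientGroup.mk'_surjective K)
  hsolv := by
    have := D.hsolv
    exact Group.isSolvable_of_surjective ((QuotientGroup.mk' K).subgroupMap_surjective G)
  hpG := fun h => D.hpG (h.trans (Subgroup.card_map_dvd _ _))
  hfpf := by
    rintro _ ⟨g, hg, rfl⟩ h
    have h1 : g ∈ K := D.lift inferInstance hK hg (fun a => (comm_mem_iff _ _).mpr (h a))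
    exact (QuotientGroup.eq_one_iff g).mpr h1

theorem card_zpowers (D : WS p θ G) {b : A} (hb : b ≠ 1) :
    Nat.card (Subgroup.zpowers b) = p := by
  rw [Nat.card_zpowers]
  rcases (Nat.dvd_prime D.hp).mp (orderOf_dvd_of_pow_eq_one (D.hAp b)) with h | h
  · exact absurd (orderOf_eq_one_iff.mp h) hb
  · exact h

theorem exists_indep (D : WS p θ G) {b : A} (hb : b ≠ 1) :
    ∃ c : A, Subgroup.zpowers b ⊔ Subgroup.zpowers c = ⊤ := by
  have : Finite A := D.finA
  have h1 := D.card_zpowers hb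
  have h4 : Subgroup.zpowers b ≠ ⊤ := by
    intro h
    rw [h, Subgroup.card_top, D.hAcard] at h1
    have : p < p ^ 2 := by nlinarith [D.hp.one_lt]
    omega
  obtain ⟨c, -, hc⟩ := SetLike.exists_of_lt (lt_top_iff_ne_top.mpr h4)
  refine ⟨c, ?_⟩
  have h2 : ¬ Nat.card (Subgroup.zpowers b ⊔ Subgroup.zpowers c : Subgroup A) ≤ p := by
    intro hle
    have h3 := Subgroup.eq_of_le_of_card_ge
      (le_sup_left : Subgroup.zpowers b ≤ Subgroup.zpowers b ⊔ Subgroup.zpowers c)
      (by rw [h1]; exact hle)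
    apply hc
    rw [h3]
    exact (le_sup_right : Subgroup.zpowers c ≤ _) (Subgroup.mem_zpowers c)
  have h5 : Nat.card (Subgroup.zpowers b ⊔ Subgroup.zpowers c : Subgroup A) ∣ p ^ 2 := by
    rw [← D.hAcard]
    exact Subgroup.card_subgroup_dvd_card _
  obtain ⟨k, hk, hk'⟩ := (Nat.dvd_prime_pow D.hp).mp h5
  have hk2 : k = 2 := by
    by_contra hne
    apply h2
    rw [hk']
    have : k ≤ 1 := by omega
    calc p ^ k ≤ p ^ 1 := Nat.pow_le_pow_right D.hp.pos this
      _ = p := pow_one p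
  rw [hk2, ← D.hAcard] at hk'
  exact (Subgroup.card_eq_iff_eq_top _).mp hk'

/-- Thompson: the centralizer in `G` of a nonidentity element of `A` is nilpotent. -/
theorem nilp_cent [Finite X] (D : WS p θ G) {c : A} (hc : c ≠ 1) :
    Group.IsNilpotent ↥(G ⊓ Subgroup.centralizer {θ c}) := by
  obtain ⟨a', hgen⟩ := D.exists_indep hc
  have hnorm : θ.range ≤ Subgroup.normalizer ((G ⊓ Subgroup.centralizer {θ c} : Subgroup X) : Set X) := by
    apply le_normalizer_of_conj
    rintro _ ⟨a, rfl⟩ d hd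
    refine ⟨D.hGn.conj_mem d hd.1 _, ?_⟩
    change θ a * d * (θ a)⁻¹ ∈ Subgroup.centralizer {θ c}
    rw [Subgroup.mem_centralizer_iff]
    rintro _ rfl
    have h1 : θ c * d = d * θ c := Subgroup.mem_centralizer_iff.mp hd.2 (θ c) rfl
    have h2 : θ a * θ c = θ c * θ a := by rw [← map_mul, ← map_mul, D.hAc]
    have h3 : (θ a)⁻¹ * θ c = θ c * (θ a)⁻¹ := by
      rw [eq_mul_inv_iff_mul_eq, mul_assoc, ← h2, ← mul_assoc, inv_mul_cancel, one_mul]
    calc θ c * (θ a * d * (θ a)⁻¹) = (θ c * θ a) * d * (θ a)⁻¹ := by group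
      _ = θ a * (θ c * d) * (θ a)⁻¹ := by rw [← h2]; group
      _ = θ a * d * (θ c * (θ a)⁻¹) := by rw [h1]; group
      _ = θ a * d * (θ a)⁻¹ * θ c := by rw [← h3]; group
  letI act : MulDistribMulAction ↥θ.range ↥(G ⊓ Subgroup.centralizer {θ c}) :=
    Cfsg.Agent.Lib.Helper97.SectMod.conjAct θ.range _ hnorm
  obtain ⟨t, ht⟩ : ∃ t : ↥θ.range, (t : X) = θ a' := ⟨⟨θ a', a', rfl⟩, rfl⟩
  obtain ⟨φ, hφdef⟩ : ∃ φ : ↥(G ⊓ Subgroup.centralizer {θ c}) ≃* ↥(G ⊓ Subgroup.centralizer {θ c}),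
      φ = MulDistribMulAction.toMulAut ↥θ.range ↥(G ⊓ Subgroup.centralizer {θ c}) t := ⟨_, rfl⟩
  have hφ : ∀ g : ↥(G ⊓ Subgroup.centralizer {θ c}), ((φ g : ↥(G ⊓ Subgroup.centralizer {θ c})) : X) =
      θ a' * g * (θ a')⁻¹ := by
    intro g
    rw [hφdef, ← ht]
    rfl
  have hfix : MonoidHom.FixedPointFree (φ : ↥(G ⊓ Subgroup.centralizer {θ c}) →*
      ↥(G ⊓ Subgroup.centralizer {θ c})) := by
    intro g hg
    have h1 : θ a' * (g : X) * (θ a')⁻¹ = g := by
      rw [← hφ g]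
      exact congrArg Subtype.val hg
    have h2 : θ a' * (g : X) = g * θ a' := by
      calc θ a' * (g : X) = (θ a' * (g : X) * (θ a')⁻¹) * θ a' := by group
        _ = g * θ a' := by rw [h1]
    have h3 : θ c * (g : X) = g * θ c := Subgroup.mem_centralizer_iff.mp g.2.2 (θ c) rfl
    have h4 : ∀ a : A, θ a * (g : X) = g * θ a := by
      have hle : (⊤ : Subgroup A) ≤ (Subgroup.centralizer {(g : X)}).comap θ := by
        rw [← hgen, sup_le_iff, Subgroup.zpowers_le, Subgroup.zpowers_le]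
        constructor
        · rw [Subgroup.mem_comap, Subgroup.mem_centralizer_iff]
          rintro _ rfl
          exact h3.symm
        · rw [Subgroup.mem_comap, Subgroup.mem_centralizer_iff]
          rintro _ rfl
          exact h2.symm
      intro a
      have h5 := hle (Subgroup.mem_top a)
      rw [Subgroup.mem_comap, Subgroup.mem_centralizer_iff] at h5
      exact (h5 _ rfl).symm
    exact Subtype.ext (D.hfpf g g.2.1 h4)
  have hord : orderOf φ ∣ p := by
    have h1 : orderOf φ ∣ orderOf t := by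
      rw [hφdef]
      exact orderOf_map_dvd _ t
    refine h1.trans (orderOf_dvd_of_pow_eq_one ?_)
    apply Subtype.ext
    change (t : X) ^ p = 1
    rw [ht]
    exact D.thp a'
  rcases (Nat.dvd_prime D.hp).mp hord with h1 | h1
  · have h2 : φ = 1 := orderOf_eq_one_iff.mp h1
    have : Subsingleton ↥(G ⊓ Subgroup.centralizer {θ c}) := ⟨fun x y => by
      have hx := hfix x (by rw [h2]; rfl)
      have hy := hfix y (by rw [h2]; rfl)
      rw [hx, hy]⟩
    infer_instance
  · exact Cfsg.Agent.S0033.result φ hfix p D.hp h1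

end WS

end Cfsg.Agent.Lib.Helper97.Ward
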