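-- Ward's theorem, part 4: a group `G` (with `A` acting as in `WS`) acting faithfully and
-- irreducibly (for `X = G·A`) on an elementary abelian `s`-group `V` with `C_V(A) = 1`, such
-- that the centralizers of the nonidentity elements of `A` behave like nilpotent groups, and
-- having a nilpotent normal subgroup with nilpotent quotient, is nilpotent.
import Mathlib
import Cfsg.Agent.Lib.Helper1.FittingPrimary
import Cfsg.Agent.Lib.Helper23.NilpParts
import Cfsg.Agent.Lib.Helper97.HHSylow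
import Cfsg.Agent.Lib.Helper97.WardQuot

set_option autoImplicit false

namespace Cfsg.Agent.Lib.Helper97.Ward

open scoped commutatorElement

/-- The hypotheses on the module. -/
structure WM {X A : Type*} (V : Type*) [Group X] [Group A] [CommGroup V] [MulDistribMulAction X V]
    (p s : ℕ) (θ : A →* X) (G : Subgroup X) : Prop where
  hs : s.Prime
  hsp : s ≠ p
  hexp : ∀ v : V, v ^ s = 1
  hfaith : ∀ g ∈ G, (∀ v : V, g • v = v) → g = 1
  hCV : ∀ v : V, (∀ a : A, θ a • v = v) → v = 1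
  hirr : ∀ W : Subgroup V, (∀ x : X, ∀ w ∈ W, x • w ∈ W) → W = ⊥ ∨ W = ⊤
  hT1 : ∀ c : A, c ≠ 1 → ∀ u ∈ G, θ c * u = u * θ c → ∀ q j : ℕ, q.Prime → q ≠ s →
    u ^ q ^ j = 1 → ∀ v : V, θ c • v = v → u • v = v

namespace WS
variable {X A V : Type*} [Group X] [Finite X] [Group A] [CommGroup V] [Finite V]
  [MulDistribMulAction X V] {p s : ℕ} {θ : A →* X} {G : Subgroup X}

omit [Finite X] in
theorem index_dvd (D : WS p θ G) : G.index ∣ p ^ 2 := by
  have := D.hGn
  rw [← Subgroup.relIndex_top_right, ← D.hsup, Subgroup.relIndex_sup_left, ← D.hAcard]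
  exact (Subgroup.relIndex_dvd_card _ _).trans (Subgroup.card_range_dvd θ)

theorem pCore_le (D : WS p θ G) {q : ℕ} (hq : q.Prime) (hqp : q ≠ p) :
    Cfsg.pCore q X ≤ G := by
  have := Fact.mk hq
  have := D.hGn
  intro z hz
  apply Cfsg.Agent.Lib.Helper1.mem_of_coprime_index G z
  obtain ⟨k, hk⟩ := (Cfsg.Agent.Lib.Helper55.pCore_isPGroup q X) ⟨z, hz⟩
  have h2 : orderOf z ∣ q ^ k := orderOf_dvd_of_pow_eq_one (congrArg Subtype.val hk)
  exact Nat.Coprime.coprime_dvd_left h2 (Nat.Coprime.coprime_dvd_right D.index_dvd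
    (Nat.Coprime.pow _ _ ((Nat.coprime_primes hq D.hp).mpr hqp)))

/-- `O_s(X) = 1`. -/
theorem pCore_s_eq_bot (D : WS p θ G) (M : WM V p s θ G) : Cfsg.pCore s X = ⊥ := by
  have := Fact.mk M.hs
  have hPn : (Cfsg.pCore s X).Normal := Cfsg.pCore_normal s X
  have hPp : IsPGroup s (Cfsg.pCore s X) := Cfsg.Agent.Lib.Helper55.pCore_isPGroup s X
  let W : Subgroup V :=
    { carrier := {v | ∀ u ∈ Cfsg.pCore s X, u • v = v}
      mul_mem' := fun {a b} ha hb u hu => by rw [smul_mul', ha u hu, hb u hu]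
      one_mem' := fun u _ => smul_one u
      inv_mem' := fun {a} ha u hu => by rw [smul_inv', ha u hu] }
  have hWmem : ∀ v : V, v ∈ W ↔ ∀ u ∈ Cfsg.pCore s X, u • v = v := fun v => Iff.rfl
  have hWinv : ∀ x : X, ∀ w ∈ W, x • w ∈ W := by
    intro x w hw
    rw [hWmem] at hw ⊢
    intro u hu
    have h1 : x⁻¹ * u * x ∈ Cfsg.pCore s X := by
      have h := hPn.conj_mem u hu x⁻¹
      rwa [inv_inv] at h
    calc u • x • w = x • ((x⁻¹ * u * x) • w) := by
          rw [smul_smul, smul_smul]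
          congr 1
          group
      _ = x • w := by rw [hw _ h1]
  have htriv : ∀ u ∈ Cfsg.pCore s X, ∀ v : V, u • v = v := by
    rcases M.hirr W hWinv with h | h
    · have hVp : IsPGroup s V := fun v => ⟨1, by rw [pow_one]; exact M.hexp v⟩
      by_contra hcon
      have hnt : Nontrivial V := by
        by_contra hnt
        rw [not_nontrivial_iff_subsingleton] at hnt
        exact hcon (fun u _ v => Subsingleton.elim _ _)
      obtain ⟨n, hn⟩ := IsPGroup.iff_card.mp hVp
      have hn0 : n ≠ 0 := by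
        rintro rfl
        rw [pow_zero] at hn
        have := Finite.one_lt_card (α := V)
        omega
      have hdvd : s ∣ Nat.card V := by
        rw [hn]
        exact dvd_pow_self s hn0
      obtain ⟨b, hb, hb1⟩ := hPp.exists_fixed_point_of_prime_dvd_card_of_fixed_point (α := V) hdvd
        (a := 1) (fun u => smul_one (u : X))
      have hbW : b ∈ W := by
        rw [hWmem]
        intro u hu
        exact hb ⟨u, hu⟩
      rw [h, Subgroup.mem_bot] at hbW
      exact hb1 hbW.symm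
    · intro u hu v
      have h1 : v ∈ W := by
        rw [h]
        exact Subgroup.mem_top v
      exact (hWmem v).mp h1 u hu
  rw [eq_bot_iff]
  intro u hu
  rw [Subgroup.mem_bot]
  exact M.hfaith u (D.pCore_le M.hs M.hsp hu) (htriv u hu)

/-- Elements of `G` of prime power order centralize the `q`-cores for the other primes. -/
theorem comm_pCore (D : WS p θ G) (M : WM V p s θ G) {r : ℕ} (hr : r.Prime) {y : X}
    (hy : y ∈ G) {b : ℕ} (hyb : y ^ r ^ b = 1) {q : ℕ} (hq : q.Prime) (hqr : q ≠ r) :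
    y ∈ Subgroup.centralizer (Cfsg.pCore q X : Set X) := by
  have := Fact.mk hq
  have := Fact.mk hr
  have := Fact.mk D.hp
  rw [Subgroup.mem_centralizer_iff]
  intro z hz
  have hz' : z ∈ Cfsg.pCore q X := hz
  by_cases hqp : q = p
  · have hdis : Disjoint (Cfsg.pCore q X) G := by
      rw [Subgroup.disjoint_def]
      intro w hw1 hw2
      obtain ⟨k, hk⟩ := (Cfsg.Agent.Lib.Helper55.pCore_isPGroup q X) ⟨w, hw1⟩
      have hk' : w ^ q ^ k = 1 := congrArg Subtype.val hk
      have h2 : w ^ Nat.card G = 1 := by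
        have h3 := pow_card_eq_one' (G := ↥G) (x := ⟨w, hw2⟩)
        exact congrArg Subtype.val h3
      rw [hqp] at hk'
      exact eq_one_of_pow_coprime'
        (Nat.Coprime.pow_left _ ((Nat.Prime.coprime_iff_not_dvd D.hp).mpr D.hpG)) hk' h2
    exact (Subgroup.commute_of_normal_of_disjoint _ _ (Cfsg.pCore_normal q X) D.hGn hdis z y
      hz' hy).eq
  by_cases hqs : q = s
  · rw [hqs, D.pCore_s_eq_bot M, Subgroup.mem_bot] at hz'
    rw [hz', one_mul, mul_one]
  obtain ⟨R, hRG, hRr, hRinv, hRidx⟩ :=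
    Cfsg.Agent.Lib.Helper97.HH.exists_invariant_sylow G θ.range (le_norm D.hGn _)
      (r := p) (q := r) D.pA D.hpG
  have hQG : Cfsg.pCore q X ≤ G := D.pCore_le hq hqp
  have hQp : IsPGroup q (Cfsg.pCore q X) := Cfsg.Agent.Lib.Helper55.pCore_isPGroup q X
  have hQn : (Cfsg.pCore q X).Normal := Cfsg.pCore_normal q X
  have hpow : ∀ u ∈ Cfsg.pCore q X, ∃ k : ℕ, u ^ q ^ k = 1 := by
    intro u hu
    obtain ⟨k, hk⟩ := hQp ⟨u, hu⟩
    exact ⟨k, congrArg Subtype.val hk⟩
  have hRpow : ∀ g ∈ R, ∃ k : ℕ, g ^ r ^ k = 1 := by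
    intro g hg
    obtain ⟨k, hk⟩ := hRr ⟨g, hg⟩
    exact ⟨k, congrArg Subtype.val hk⟩
  have W : WD V p q s θ (Cfsg.pCore q X) R :=
    { hp := D.hp
      hq := hq
      hs := M.hs
      hqs := hqs
      hpq := fun h => hqp h.symm
      hexp := M.hexp
      hAc := D.hAc
      hAp := D.hAp
      hAcard := D.hAcard
      hQ := hQp
      hR := fun h => D.hpG (h.trans (Subgroup.card_dvd_of_le hRG))
      hAQ := fun c u hu => hQn.conj_mem u hu _
      hAR := fun c g hg => hRinv (θ c) ⟨c, rfl⟩ g hg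
      hRQ := fun g _ u hu => hQn.conj_mem u hu _
      hfaith := fun u hu h => M.hfaith u (hQG hu) h
      hCV := M.hCV
      hCQ := fun u hu h => D.hfpf u (hQG hu) h
      hT1 := fun c hc u hu hcu v hv => by
        obtain ⟨k, hk⟩ := hpow u hu
        exact M.hT1 c hc u (hQG hu) hcu q k hq hqs hk v hv
      hT2 := fun c hc u hu hcu g hg hcg => by
        obtain ⟨k, hk⟩ := hpow u hu
        obtain ⟨l, hl⟩ := hRpow g hg
        refine Cfsg.Agent.Lib.Helper23.comm_of_coprime_orderOf (D.nilp_cent hc) (x := u) (y := g)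
          ⟨hQG hu, ?_⟩ ⟨hRG hg, ?_⟩ ?_
        · change u ∈ Subgroup.centralizer {θ c}
          rw [Subgroup.mem_centralizer_iff]
          rintro _ rfl
          exact hcu
        · change g ∈ Subgroup.centralizer {θ c}
          rw [Subgroup.mem_centralizer_iff]
          rintro _ rfl
          exact hcg
        · exact Nat.Coprime.coprime_dvd_left (orderOf_dvd_of_pow_eq_one hk)
            (Nat.Coprime.coprime_dvd_right (orderOf_dvd_of_pow_eq_one hl)
              (Nat.Coprime.pow _ _ ((Nat.coprime_primes hq hr).mpr hqr))) }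
  have hcore := W.core
  have hzy : IsPGroup r (Subgroup.zpowers y) := by
    rintro ⟨x, hx⟩
    obtain ⟨k, rfl⟩ := Subgroup.mem_zpowers_iff.mp hx
    refine ⟨b, Subtype.ext ?_⟩
    change (y ^ k) ^ r ^ b = 1
    rw [← zpow_natCast, ← zpow_mul, mul_comm, zpow_mul, zpow_natCast, hyb, one_zpow]
  obtain ⟨h, hhG, hh⟩ := conj_into (p := r) G R (Subgroup.zpowers y)
    (by rw [Subgroup.zpowers_le]; exact hy) hzy hRidx
  have h1 : h⁻¹ * y * h ∈ R := hh y (Subgroup.mem_zpowers y)
  have h2 : h⁻¹ * z * h ∈ Cfsg.pCore q X := by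
    have h' := hQn.conj_mem z hz' h⁻¹
    rwa [inv_inv] at h'
  have h3 := hcore _ h2 _ h1
  have h4 : h⁻¹ * (z * y) * h = h⁻¹ * (y * z) * h := by
    calc h⁻¹ * (z * y) * h = (h⁻¹ * z * h) * (h⁻¹ * y * h) := by group
      _ = (h⁻¹ * y * h) * (h⁻¹ * z * h) := h3
      _ = h⁻¹ * (y * z) * h := by group
  exact mul_left_cancel (mul_right_cancel h4)

/-- The nilpotency statement. -/
theorem fit_nilp (D : WS p θ G) (M : WM V p s θ G) (N : Subgroup X) (hNn : N.Normal)
    (hN : ∃ k, N.lowerCentralSeries k = ⊥) (hGN : ∃ k, G.lowerCentralSeries k ≤ N) :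
    ∃ k, G.lowerCentralSeries k = ⊥ := by
  rw [← Subgroup.isNilpotent_iff_lowerCentralSeries]
  have hNnil : Group.IsNilpotent ↥N := (Subgroup.isNilpotent_iff_lowerCentralSeries N).mpr hN
  have := hNn
  have hNF : N ≤ Cfsg.fittingSubgroup X := Cfsg.Agent.Lib.Helper71.le_fittingSubgroup N hNnil
  obtain ⟨k, hk⟩ := hGN
  have hquot : Group.IsNilpotent ↥(G.map (QuotientGroup.mk' N)) := by
    rw [Subgroup.isNilpotent_iff_lowerCentralSeries]
    refine ⟨k, ?_⟩
    rw [← Subgroup.map_lowerCentralSeries, eq_bot_iff]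
    rintro _ ⟨w, hw, rfl⟩
    rw [Subgroup.mem_bot]
    exact (QuotientGroup.eq_one_iff w).mpr (hk hw)
  have key : ∀ r q : ℕ, r.Prime → q.Prime → r ≠ q → ∀ x y : X, x ∈ G → y ∈ G → ∀ a b : ℕ,
      x ^ r ^ a = 1 → y ^ q ^ b = 1 → ⁅x, y⁆ ∈ Cfsg.pCore q X := by
    intro r q hr hq hrq x y hx hy a b hxa hyb
    have := Fact.mk hq
    apply Cfsg.Agent.Lib.Helper1.commutator_mem_pCore_of_fitting x y b hyb
    · intro q' hq' hq'q
      exact D.comm_pCore M hq hy hyb hq' hq'q
    · apply hNF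
      have h1 := Cfsg.Agent.Lib.Helper23.comm_of_coprime_orderOf hquot
        (x := QuotientGroup.mk' N x) (y := QuotientGroup.mk' N y)
        (Subgroup.mem_map_of_mem _ hx) (Subgroup.mem_map_of_mem _ hy)
        (Nat.Coprime.coprime_dvd_left
          ((orderOf_map_dvd _ x).trans (orderOf_dvd_of_pow_eq_one hxa))
          (Nat.Coprime.coprime_dvd_right
            ((orderOf_map_dvd _ y).trans (orderOf_dvd_of_pow_eq_one hyb))
            (Nat.Coprime.pow _ _ ((Nat.coprime_primes hr hq).mpr hrq))))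
      rw [← QuotientGroup.eq_one_iff, ← QuotientGroup.mk'_apply, commutatorElement_def, map_mul,
        map_mul, map_mul, map_inv, map_inv, h1]
      group
  apply Cfsg.Agent.Lib.Helper1.isNilpotent_of_commute_coprime
  intro r q hr hq hrq x y a b hxa hyb
  have hxa' : (x : X) ^ r ^ a = 1 := congrArg Subtype.val hxa
  have hyb' : (y : X) ^ q ^ b = 1 := congrArg Subtype.val hyb
  have h1 := key r q hr hq hrq x y x.2 y.2 a b hxa' hyb'
  have h2 := key q r hq hr (Ne.symm hrq) y x y.2 x.2 b a hyb' hxa'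
  have h3 : ⁅(x : X), (y : X)⁆ ∈ Cfsg.pCore r X := by
    rw [← commutatorElement_inv]
    exact Subgroup.inv_mem _ h2
  have := Fact.mk hr
  have := Fact.mk hq
  obtain ⟨k1, hk1⟩ := (Cfsg.Agent.Lib.Helper55.pCore_isPGroup q X) ⟨_, h1⟩
  obtain ⟨k2, hk2⟩ := (Cfsg.Agent.Lib.Helper55.pCore_isPGroup r X) ⟨_, h3⟩
  have h4 : ⁅(x : X), (y : X)⁆ = 1 :=
    eq_one_of_pow_coprime' (Nat.Coprime.pow _ _ ((Nat.coprime_primes hq hr).mpr (Ne.symm hrq)))
      (congrArg Subtype.val hk1) (congrArg Subtype.val hk2)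
  exact Subtype.ext (commutatorElement_eq_one_iff_mul_comm.mp h4)

end WS

end Cfsg.Agent.Lib.Helper97.Ward
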