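-- Ward's theorem, part 5: the induction. A finite solvable `p'`-group `G`, normal in `X = G·A`
-- with `A` elementary abelian of order `p²` and `C_G(A) = 1`, has a normal nilpotent subgroup
-- with nilpotent quotient.
import Mathlib
import Cfsg.Agent.Lib.Helper1.MinNormal
import Cfsg.Agent.Lib.Helper97.WardFit

set_option autoImplicit false

universe u v

namespace Cfsg.Agent.Lib.Helper97.Ward

open scoped commutatorElement

/-- The inductive step: `G / C_G(S)` is nilpotent for a minimal normal subgroup `S`. -/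
theorem ward_step {X A : Type*} [Group X] [Finite X] [Group A] {p s : ℕ} {θ : A →* X}
    {G : Subgroup X} (D : WS p θ G) (S : Subgroup X) [hSn : S.Normal] (hSG : S ≤ G)
    (hmin : ∀ M : Subgroup X, M.Normal → M ≤ S → M = ⊥ ∨ M = S)
    (hScomm : ∀ a ∈ S, ∀ b ∈ S, a * b = b * a) (hs : s.Prime) (hsp : s ≠ p)
    (hSexp : ∀ x ∈ S, x ^ s = 1)
    (C : Subgroup X) [hCn : C.Normal] (hC : C = G ⊓ Subgroup.centralizer (S : Set X))
    (IH : ∃ N : Subgroup (X ⧸ C), N.Normal ∧ (∃ k, N.lowerCentralSeries k = ⊥) ∧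
      ∃ k, (G.map (QuotientGroup.mk' C)).lowerCentralSeries k ≤ N) :
    ∃ k, G.lowerCentralSeries k ≤ C := by
  have hCG : C ≤ G := by
    rw [hC]
    exact inf_le_left
  letI cg : CommGroup ↥S :=
    { (inferInstance : Group ↥S) with
      mul_comm := fun a b => Subtype.ext (hScomm a a.2 b b.2) }
  have hker : C ≤ (MulAut.conjNormal : X →* MulAut ↥S).ker := by
    intro x hx
    rw [MonoidHom.mem_ker]
    apply MulEquiv.ext
    intro v
    apply Subtype.ext
    rw [MulAut.conjNormal_apply]
    rw [hC] at hx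
    have h1 : (v : X) * x = x * v := Subgroup.mem_centralizer_iff.mp hx.2 v v.2
    change x * (v : X) * x⁻¹ = v
    rw [← h1, mul_inv_cancel_right]
  letI act : MulDistribMulAction (X ⧸ C) ↥S :=
    MulDistribMulAction.compHom ↥S (QuotientGroup.lift C (MulAut.conjNormal : X →* MulAut ↥S) hker)
  have hact : ∀ (x : X) (v : ↥S), (((QuotientGroup.mk' C x) • v : ↥S) : X) = x * v * x⁻¹ :=
    fun x v => rfl
  have D₁ := D.quot C hCG
  have M : WM ↥S p s ((QuotientGroup.mk' C).comp θ) (G.map (QuotientGroup.mk' C)) :=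
    { hs := hs
      hsp := hsp
      hexp := fun v => Subtype.ext (hSexp v v.2)
      hfaith := by
        rintro _ ⟨g, hg, rfl⟩ h
        refine (QuotientGroup.eq_one_iff g).mpr ?_
        rw [hC]
        refine ⟨hg, ?_⟩
        change g ∈ Subgroup.centralizer (S : Set X)
        rw [Subgroup.mem_centralizer_iff]
        intro v hv
        have h1 := congrArg Subtype.val (h ⟨v, hv⟩)
        rw [hact] at h1
        change g * v * g⁻¹ = v at h1
        calc v * g = (g * v * g⁻¹) * g := by rw [h1]
          _ = g * v := by group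
      hCV := by
        intro v h
        apply Subtype.ext
        refine D.hfpf v (hSG v.2) (fun a => ?_)
        have h1 := congrArg Subtype.val (h a)
        change (((QuotientGroup.mk' C (θ a)) • v : ↥S) : X) = v at h1
        rw [hact] at h1
        calc θ a * (v : X) = (θ a * v * (θ a)⁻¹) * θ a := by group
          _ = v * θ a := by rw [h1]
      hirr := by
        intro W hW
        have hn : (W.map S.subtype).Normal := by
          refine ⟨?_⟩
          rintro _ ⟨w, hw, rfl⟩ x
          refine ⟨(QuotientGroup.mk' C x) • w, hW _ w hw, ?_⟩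
          rw [Subgroup.coe_subtype, hact]
        have hle : W.map S.subtype ≤ S := by
          rintro _ ⟨w, -, rfl⟩
          exact w.2
        rcases hmin _ hn hle with h | h
        · left
          exact (Subgroup.map_eq_bot_iff_of_injective W S.subtype_injective).mp h
        · right
          rw [eq_top_iff]
          intro v _
          have h1 : (v : X) ∈ W.map S.subtype := by
            rw [h]
            exact v.2
          obtain ⟨w, hw, hwv⟩ := h1
          have h2 : w = v := Subtype.ext hwv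
          rwa [← h2]
      hT1 := by
        rintro c hc _ ⟨g₀, hg₀, rfl⟩ hcu q j hq hqs huj v hv
        have h1 : θ c * g₀ * (θ c)⁻¹ * g₀⁻¹ ∈ C := (comm_mem_iff _ _).mpr hcu
        obtain ⟨d, hdG, hdc, hdC⟩ := D.lift1 hCn hCG c hg₀ h1
        have h2 : QuotientGroup.mk' C d = QuotientGroup.mk' C g₀ :=
          (QuotientGroup.eq.mpr hdC).symm
        rw [← h2] at huj ⊢
        obtain ⟨m, i, hm1, hm2⟩ := exists_pow_part (QuotientGroup.mk' C) d hq huj
        rw [← hm1]
        have he : d ^ m ∈ G ⊓ Subgroup.centralizer {θ c} := by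
          refine ⟨G.pow_mem hdG m, ?_⟩
          change d ^ m ∈ Subgroup.centralizer {θ c}
          refine Subgroup.pow_mem _ ?_ m
          rw [Subgroup.mem_centralizer_iff]
          rintro _ rfl
          exact hdc
        have h3 := congrArg Subtype.val hv
        change (((QuotientGroup.mk' C (θ c)) • v : ↥S) : X) = v at h3
        rw [hact] at h3
        have hv' : (v : X) ∈ G ⊓ Subgroup.centralizer {θ c} := by
          refine ⟨hSG v.2, ?_⟩
          change (v : X) ∈ Subgroup.centralizer {θ c}
          rw [Subgroup.mem_centralizer_iff]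
          rintro _ rfl
          calc θ c * (v : X) = (θ c * v * (θ c)⁻¹) * θ c := by group
            _ = v * θ c := by rw [h3]
        have h4 : d ^ m * (v : X) = v * d ^ m :=
          Cfsg.Agent.Lib.Helper23.comm_of_coprime_orderOf (D.nilp_cent hc) he hv'
            (Nat.Coprime.coprime_dvd_left (orderOf_dvd_of_pow_eq_one hm2)
              (Nat.Coprime.coprime_dvd_right (orderOf_dvd_of_pow_eq_one (hSexp v v.2))
                (Nat.Coprime.pow_left _ ((Nat.coprime_primes hq hs).mpr hqs))))
        apply Subtype.ext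
        rw [hact, h4, mul_inv_cancel_right] }
  obtain ⟨N, hNn, hN, hGN⟩ := IH
  obtain ⟨k, hk⟩ := D₁.fit_nilp M N hNn hN hGN
  refine ⟨k, ?_⟩
  intro x hx
  have h1 : QuotientGroup.mk' C x ∈ (G.map (QuotientGroup.mk' C)).lowerCentralSeries k := by
    rw [← Subgroup.map_lowerCentralSeries]
    exact Subgroup.mem_map_of_mem _ hx
  rw [hk, Subgroup.mem_bot] at h1
  exact (QuotientGroup.eq_one_iff x).mp h1

/-- Ward's theorem in the ambient form. -/
theorem ward_main {A : Type v} [Group A] {p : ℕ} :
    ∀ n : ℕ, ∀ (X : Type u) [Group X] [Finite X] (G : Subgroup X) (θ : A →* X),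
      WS p θ G → Nat.card G ≤ n →
      ∃ N : Subgroup X, N ≤ G ∧ N.Normal ∧ (∃ k, N.lowerCentralSeries k = ⊥) ∧
        (∃ k, G.lowerCentralSeries k ≤ N) := by
  intro n
  induction n with
  | zero =>
    intro X _ _ G θ D hn
    have := Nat.card_pos (α := ↥G)
    omega
  | succ n ih =>
    intro X _ _ G θ D hn
    by_cases hG1 : G = ⊥
    · refine ⟨⊥, bot_le, Subgroup.normal_bot, ⟨0, rfl⟩, ⟨0, ?_⟩⟩
      rw [Subgroup.lowerCentralSeries_zero, hG1]
    have hGn := D.hGn
    obtain ⟨S, -, hSmin⟩ := Set.Finite.exists_le_minimal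
      (Set.toFinite {M : Subgroup X | M.Normal ∧ M ≤ G ∧ M ≠ ⊥}) (a := G) ⟨D.hGn, le_rfl, hG1⟩
    obtain ⟨⟨hSn, hSG, hS1⟩, hSm⟩ := hSmin
    have hmin : ∀ M : Subgroup X, M.Normal → M ≤ S → M = ⊥ ∨ M = S := by
      intro M hMn hMS
      by_cases hM : M = ⊥
      · exact Or.inl hM
      · exact Or.inr (le_antisymm hMS (hSm ⟨hMn, hMS.trans hSG, hM⟩ hMS))
    have hsolvG := D.hsolv
    have hsolvS : Group.IsSolvable ↥S :=
      Group.isSolvable_of_isSolvable_injective (Subgroup.inclusion_injective hSG)
    obtain ⟨hScomm, s, hs, hSexp⟩ := Cfsg.Agent.Lib.Helper1.minNormal_elementary S hsolvS hS1 hmin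
    have hScomm' : ∀ a ∈ S, ∀ b ∈ S, a * b = b * a := by
      intro a ha b hb
      exact congrArg Subtype.val (mul_comm' (⟨a, ha⟩ : ↥S) ⟨b, hb⟩)
    have hsp : s ≠ p := by
      rintro rfl
      obtain ⟨x, hx, hx1⟩ : ∃ x ∈ S, x ≠ 1 := by
        by_contra h
        push Not at h
        exact hS1 ((Subgroup.eq_bot_iff_forall S).mpr h)
      apply D.hpG
      have h1 : orderOf x = s := by
        rcases (Nat.dvd_prime hs).mp (orderOf_dvd_of_pow_eq_one (hSexp x hx)) with h | h
        · exact absurd (orderOf_eq_one_iff.mp h) hx1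
        · exact h
      have h2 := orderOf_dvd_natCard (⟨x, hSG hx⟩ : ↥G)
      rwa [Subgroup.orderOf_mk, h1] at h2
    obtain ⟨C, hC⟩ : ∃ C : Subgroup X, C = G ⊓ Subgroup.centralizer (S : Set X) := ⟨_, rfl⟩
    have hCn : C.Normal := by
      rw [hC]
      infer_instance
    have hCG : C ≤ G := by
      rw [hC]
      exact inf_le_left
    have hSC : S ≤ C := by
      rw [hC]
      refine le_inf hSG ?_
      intro x hx
      rw [Subgroup.mem_centralizer_iff]
      intro y hy
      exact hScomm' y hy x hx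
    have hC1 : C ≠ ⊥ := by
      intro h
      rw [h, le_bot_iff] at hSC
      exact hS1 hSC
    -- the quotient by `C`
    obtain ⟨N₁, -, hN₁n, hN₁, hGN₁⟩ := ih (X ⧸ C) (G.map (QuotientGroup.mk' C))
      ((QuotientGroup.mk' C).comp θ) (D.quot C hCG)
      (by have := card_map_lt G C hCG hC1; omega)
    obtain ⟨k₃, hk₃⟩ := ward_step D S hSG hmin hScomm' hs hsp hSexp C hC ⟨N₁, hN₁n, hN₁, hGN₁⟩
    -- the quotient by `S`
    obtain ⟨N₂, -, hN₂n, ⟨k₁, hk₁⟩, ⟨k₂, hk₂⟩⟩ := ih (X ⧸ S) (G.map (QuotientGroup.mk' S))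
      ((QuotientGroup.mk' S).comp θ) (D.quot S hSG)
      (by have := card_map_lt G S hSG hS1; omega)
    have hcn : (N₂.comap (QuotientGroup.mk' S)).Normal := hN₂n.comap _
    refine ⟨N₂.comap (QuotientGroup.mk' S) ⊓ C, inf_le_right.trans hCG, inferInstance,
      ⟨k₁ + 1, ?_⟩, ⟨max k₂ k₃, ?_⟩⟩
    · have h1 : (N₂.comap (QuotientGroup.mk' S) ⊓ C).lowerCentralSeries k₁ ≤ S := by
        intro x hx
        have h2 : x ∈ (N₂.comap (QuotientGroup.mk' S)).lowerCentralSeries k₁ :=
          Subgroup.lowerCentralSeries_mono k₁ inf_le_left hx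
        have h3 : QuotientGroup.mk' S x ∈ N₂.lowerCentralSeries k₁ := by
          have h4 : QuotientGroup.mk' S x ∈
              ((N₂.comap (QuotientGroup.mk' S)).map (QuotientGroup.mk' S)).lowerCentralSeries k₁ := by
            rw [← Subgroup.map_lowerCentralSeries]
            exact Subgroup.mem_map_of_mem _ h2
          exact Subgroup.lowerCentralSeries_mono k₁ (Subgroup.map_comap_le _ _) h4
        rw [hk₁, Subgroup.mem_bot] at h3
        exact (QuotientGroup.eq_one_iff x).mp h3
      rw [Subgroup.lowerCentralSeries_succ, eq_bot_iff]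
      refine (Subgroup.commutator_mono h1 inf_le_right).trans ?_
      rw [Subgroup.commutator_le]
      intro g₁ hg₁ g₂ hg₂
      rw [Subgroup.mem_bot, commutatorElement_eq_one_iff_mul_comm]
      rw [hC] at hg₂
      exact Subgroup.mem_centralizer_iff.mp hg₂.2 g₁ hg₁
    · refine le_inf ?_ ?_
      · intro x hx
        have h2 : x ∈ G.lowerCentralSeries k₂ :=
          Subgroup.lowerCentralSeries_antitone G (le_max_left k₂ k₃) hx
        rw [Subgroup.mem_comap]
        apply hk₂
        rw [← Subgroup.map_lowerCentralSeries]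
        exact Subgroup.mem_map_of_mem _ h2
      · exact (Subgroup.lowerCentralSeries_antitone G (le_max_right k₂ k₃)).trans hk₃

end Cfsg.Agent.Lib.Helper97.Ward
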